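import Mathlib.Algebra.CharP.Lemmas
import Mathlib.Algebra.CharP.Algebra
import Mathlib.FieldTheory.IsAlgClosed.Basic
import Mathlib.GroupTheory.PGroup
import Mathlib.GroupTheory.IndexNormal
import Mathlib.LinearAlgebra.Eigenspace.Triangularizable
import Mathlib.LinearAlgebra.Dimension.Constructions

/-!
# Finite linear groups in characteristic `p`: elementary lemmas
-/

set_option autoImplicit false

namespace Cfsg.Agent.BC86.BrauerFeit

universe u v

variable {p : ℕ} [Fact p.Prime]

theorem card_pGroup_le {G : Type*} [Group G] [Finite G] {m : ℕ}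
    (hm : ¬ p ^ (m + 1) ∣ Nat.card G) {U : Subgroup G} (hU : IsPGroup p U) :
    Nat.card U ≤ p ^ m ∧ Nat.card U ∣ p ^ m := by
  obtain ⟨k, hk⟩ := IsPGroup.iff_card.1 hU
  have hkm : k ≤ m := by
    by_contra h
    exact hm ((pow_dvd_pow p (by omega : m + 1 ≤ k)).trans (hk ▸ Subgroup.card_subgroup_dvd_card U))
  rw [hk]
  exact ⟨Nat.pow_le_pow_right (Fact.out : p.Prime).pos hkm, pow_dvd_pow p hkm⟩

variable {K : Type v} [Field K] [CharP K p]
variable {V : Type v} [AddCommGroup V] [Module K V]

/-- The map induced on the quotient by the kernel, for a monoid-valued homomorphism. -/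
def kerLiftM {G M : Type*} [Group G] [Monoid M] (σ : G →* M) : G ⧸ σ.ker →* M :=
  QuotientGroup.lift σ.ker σ fun _ h => h

theorem kerLiftM_injective {G M : Type*} [Group G] [Monoid M] (σ : G →* M) :
    Function.Injective (kerLiftM σ) := by
  intro a b
  induction a using QuotientGroup.induction_on with
  | H a => induction b using QuotientGroup.induction_on with
    | H b =>
      intro (h : σ a = σ b)
      refine QuotientGroup.eq.2 (MonoidHom.mem_ker.2 ?_)
      rw [map_mul, ← h, ← map_mul, inv_mul_cancel, map_one]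

section Rep
variable {G : Type*} [Group G] (ρ : G →* Module.End K V)

theorem sub_one_pow (t : G) (k : ℕ) : (ρ t - 1) ^ (p ^ k) = ρ (t ^ p ^ k) - 1 := by
  rcases subsingleton_or_nontrivial (Module.End K V) with h | h
  · exact Subsingleton.elim _ _
  · haveI : CharP (Module.End K V) p :=
      charP_of_injective_algebraMap (algebraMap K (Module.End K V)).injective p
    rw [sub_pow_char_pow_of_commute (p := p) k (Commute.one_right _), one_pow, map_pow]

theorem eq_one_of_nilpotent (hρ : Function.Injective ρ) {t : G}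
    (h : IsNilpotent (ρ t - 1)) (ht : (orderOf t).Coprime p) : t = 1 := by
  obtain ⟨k, hk⟩ := h
  have h1 : (ρ t - 1) ^ p ^ k = 0 := pow_eq_zero_of_le (Nat.lt_pow_self (Fact.out : p.Prime).one_lt).le hk
  rw [sub_one_pow, sub_eq_zero, ← map_one ρ] at h1
  have h2 := orderOf_dvd_of_pow_eq_one (hρ h1)
  exact orderOf_eq_one_iff.1 (Nat.eq_one_of_dvd_coprimes (ht.pow_right k) dvd_rfl h2)

theorem exists_sub_quot (W : Submodule K V) (hW : ∀ g, ∀ w ∈ W, ρ g w ∈ W) :
    ∃ (ρ₁ : G →* Module.End K W) (ρ₂ : G →* Module.End K (V ⧸ W)),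
      ∀ g, ρ₁ g = 1 → ρ₂ g = 1 → (ρ g - 1) ^ 2 = 0 := by
  refine ⟨
    { toFun := fun g => (ρ g).restrict (hW g)
      map_one' := LinearMap.ext fun w => Subtype.ext (by simp)
      map_mul' := fun g h => LinearMap.ext fun w => Subtype.ext (by simp) },
    { toFun := fun g => W.mapQ W (ρ g) (fun w hw => hW g w hw)
      map_one' := LinearMap.ext fun q => by
        induction q using Submodule.Quotient.induction_on with
        | _ x => simp
      map_mul' := fun g h => LinearMap.ext fun q => by
        induction q using Submodule.Quotient.induction_on with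
        | _ x => simp }, fun g h1 h2 => ?_⟩
  refine LinearMap.ext fun x => ?_
  have h2' := LinearMap.congr_fun h2 (Submodule.Quotient.mk x)
  simp only [MonoidHom.coe_mk, OneHom.coe_mk, Submodule.mapQ_apply, Module.End.one_apply] at h2'
  have hx : ρ g x - x ∈ W := (Submodule.Quotient.eq W).1 h2'
  have h1' := congrArg Subtype.val (LinearMap.congr_fun h1 ⟨_, hx⟩)
  simp only [MonoidHom.coe_mk, OneHom.coe_mk, LinearMap.coe_restrict_apply,
    Module.End.one_apply] at h1'
  simp only [pow_two, Module.End.mul_apply, LinearMap.sub_apply, Module.End.one_apply,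
    LinearMap.zero_apply, h1', sub_self]

/-- A scalar operator. -/
abbrev IsScalar (t : Module.End K V) : Prop := t ∈ (⊥ : Subalgebra K (Module.End K V))

theorem exists_invariant [IsAlgClosed K] [FiniteDimensional K V] {x : G}
    (hx : ¬ IsScalar (ρ x)) :
    ∃ W : Submodule K V, W ≠ ⊥ ∧ W ≠ ⊤ ∧ ∀ g, Commute g x → ∀ w ∈ W, ρ g w ∈ W := by
  rcases subsingleton_or_nontrivial V with h | h
  · exact absurd (Algebra.mem_bot.2 ⟨0, LinearMap.ext fun v => Subsingleton.elim _ _⟩) hx
  obtain ⟨c, hc⟩ := Module.End.exists_eigenvalue (ρ x)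
  refine ⟨Module.End.eigenspace (ρ x) c, hc, fun htop => hx ?_, fun g hg w hw => ?_⟩
  · refine Algebra.mem_bot.2 ⟨c, LinearMap.ext fun w => ?_⟩
    have := Module.End.mem_eigenspace_iff.1 (htop ▸ (Submodule.mem_top : w ∈ (⊤ : Submodule K V)))
    rw [this]
    simp [Module.algebraMap_end_apply]
  · rw [Module.End.mem_eigenspace_iff] at hw ⊢
    rw [← Module.End.mul_apply, ← map_mul, ← hg.eq, map_mul, Module.End.mul_apply, hw, map_smul]

end Rep

section Card
variable [IsAlgClosed K]

set_option maxHeartbeats 1000000 in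
theorem card_abelian_le_aux (e : ℕ) (he : 0 < e) : ∀ (d : ℕ) (B : Type u) (_ : Group B) (_ : Finite B)
    (V : Type v) (_ : AddCommGroup V) (_ : Module K V) (_ : FiniteDimensional K V)
    (ρ : B →* Module.End K V), Module.finrank K V = d → Function.Injective ρ →
    (∀ a b : B, Commute a b) → (Nat.card B).Coprime p → (∀ b : B, b ^ e = 1) →
    Nat.card B ≤ e ^ d := by
  intro d
  induction d using Nat.strong_induction_on with
  | _ d ih =>
  intro B _ _ V _ _ _ ρ hd hρ hcomm hcop hexp
  classical
  by_cases hall : ∀ b, IsScalar (ρ b)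
  · rcases Nat.eq_zero_or_pos d with h0 | hpos
    · haveI : Subsingleton V := Module.finrank_zero_iff.1 (hd.trans h0)
      haveI : Subsingleton B := ⟨fun a b => hρ (LinearMap.ext fun v => Subsingleton.elim _ _)⟩
      rw [Nat.card_eq_one_iff_unique.2 ⟨inferInstance, ⟨1⟩⟩]
      exact Nat.one_le_pow _ _ he
    · haveI : Nontrivial V := Module.nontrivial_of_finrank_pos (R := K) (by omega)
      choose c hc using fun b => Algebra.mem_bot.1 (hall b)
      have hce : ∀ b, c b ∈ (Polynomial.nthRoots e (1 : K)).toFinset := fun b => by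
        rw [Multiset.mem_toFinset, Polynomial.mem_nthRoots he]
        apply (algebraMap K (Module.End K V)).injective
        rw [map_pow, hc, ← map_pow, hexp, map_one, map_one]
      have hinj : Function.Injective (fun b => (⟨c b, hce b⟩ : (Polynomial.nthRoots e (1 : K)).toFinset)) :=
        fun a b h => hρ (by rw [← hc, ← hc, show c a = c b from congrArg Subtype.val h])
      refine (Nat.card_le_card_of_injective _ hinj).trans ?_
      rw [Nat.card_eq_fintype_card, Fintype.card_coe]
      exact (Multiset.toFinset_card_le _).trans ((Polynomial.card_nthRoots e _).trans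
        (Nat.le_self_pow (by omega) _))
  push Not at hall
  obtain ⟨x, hx⟩ := hall
  obtain ⟨W, hW0, hW1, hWinv⟩ := exists_invariant ρ hx
  obtain ⟨ρ₁, ρ₂, h12⟩ := exists_sub_quot ρ W (fun g => hWinv g (hcomm g x))
  have hsum := Submodule.finrank_quotient_add_finrank W
  have hlt : Module.finrank K W < d := hd ▸ Submodule.finrank_lt hW1
  have hpos : 0 < Module.finrank K W := Nat.pos_of_ne_zero fun h => hW0 (Submodule.finrank_eq_zero.1 h)
  have hstep : ∀ (V' : Type v) [AddCommGroup V'] [Module K V'] [FiniteDimensional K V']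
      (σ : B →* Module.End K V'), Module.finrank K V' < d →
      Nat.card (B ⧸ σ.ker) ≤ e ^ Module.finrank K V' := by
    intro V' i1 i2 i3 σ hV'
    have hfin : Finite (B ⧸ σ.ker) := inferInstance
    refine ih _ hV' (B ⧸ σ.ker) inferInstance inferInstance V' i1 i2 i3
      (kerLiftM σ) rfl (kerLiftM_injective σ) (fun a b => ?_) ?_ fun b => ?_
    · induction a using QuotientGroup.induction_on with
      | H a => induction b using QuotientGroup.induction_on with
        | H b => exact congrArg QuotientGroup.mk (hcomm a b).eq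
    · exact hcop.coprime_dvd_left (Subgroup.card_quotient_dvd_card _)
    · induction b using QuotientGroup.induction_on with
      | H b => exact congrArg QuotientGroup.mk (hexp b)
  have hinj : Function.Injective (fun b : B => ((b : B ⧸ ρ₁.ker), (b : B ⧸ ρ₂.ker))) := by
    intro a b h
    have e1 : a⁻¹ * b ∈ ρ₁.ker := QuotientGroup.eq.1 (congrArg Prod.fst h)
    have e2 : a⁻¹ * b ∈ ρ₂.ker := QuotientGroup.eq.1 (congrArg Prod.snd h)
    refine (inv_mul_eq_one.1 (eq_one_of_nilpotent ρ hρ ⟨2, h12 _ e1 e2⟩ ?_))
    exact hcop.coprime_dvd_left (orderOf_dvd_natCard _)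
  have h1 := hstep W ρ₁ hlt
  have h2 := hstep (V ⧸ W) ρ₂ (by omega)
  refine (Nat.card_le_card_of_injective _ hinj).trans ?_
  rw [Nat.card_prod, ← hd, ← hsum, pow_add, mul_comm]
  exact Nat.mul_le_mul h2 h1

/-- An abelian linear group of order prime to `p` and exponent dividing `e` has order at most
`e ^ d`. -/
theorem card_abelian_le {e : ℕ} (he : 0 < e) {B : Type u} [Group B] [Finite B] [FiniteDimensional K V]
    (ρ : B →* Module.End K V) (hρ : Function.Injective ρ) (hcomm : ∀ a b : B, Commute a b)
    (hcop : (Nat.card B).Coprime p) (hexp : ∀ b : B, b ^ e = 1) {n : ℕ}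
    (hn : Module.finrank K V ≤ n) : Nat.card B ≤ e ^ n :=
  (card_abelian_le_aux e he _ B inferInstance inferInstance V inferInstance inferInstance
    inferInstance ρ rfl hρ hcomm hcop hexp).trans (Nat.pow_le_pow_right he hn)

end Card

end Cfsg.Agent.BC86.BrauerFeit
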