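import Cfsg.Agent.BC86.BrauerFeit.Tori
import Mathlib.GroupTheory.GroupAction.Quotient
import Mathlib.LinearAlgebra.Charpoly.Basic
import Mathlib.LinearAlgebra.Eigenspace.Charpoly
import Mathlib.Algebra.BigOperators.Field
import Mathlib.Tactic.FieldSimp
import Mathlib.Tactic.LinearCombination
import Mathlib.Tactic.Linarith
import Mathlib.Data.Rat.Cast.Order

/-!
# Counting: an abelian subgroup of bounded index
-/

set_option autoImplicit false

namespace Cfsg.Agent.BC86.BrauerFeit

open Finset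

universe u v

theorem sum_orbit_div {H : Type*} [Group H] [Finite H] {α : Type*} [Fintype α] [MulAction H α]
    [Fintype (MulAction.orbitRel.Quotient H α)] (w : α → ℚ) (hw : ∀ (h : H) a, w (h • a) = w a) :
    (∑ a, w a) / (Nat.card H : ℚ) =
      ∑ O : MulAction.orbitRel.Quotient H α,
        w O.out / (Nat.card (MulAction.stabilizer H O.out) : ℚ) := by
  classical
  rw [← Finset.sum_fiberwise univ (fun a : α => (Quotient.mk'' a : MulAction.orbitRel.Quotient H α)) w,
    Finset.sum_div]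
  refine Finset.sum_congr rfl fun O _ => ?_
  have hset : ((univ.filter fun a : α =>
      (Quotient.mk'' a : MulAction.orbitRel.Quotient H α) = O) : Set α) = MulAction.orbit H O.out := by
    ext a
    simp only [coe_filter, mem_univ, true_and, Set.mem_setOf_eq]
    conv_lhs => rw [← Quotient.out_eq' O, Quotient.eq'', MulAction.orbitRel_apply]
  have hcard : (univ.filter fun a : α => (Quotient.mk'' a : MulAction.orbitRel.Quotient H α) = O).card *
      Nat.card (MulAction.stabilizer H O.out) = Nat.card H := by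
    rw [← Set.ncard_coe_finset, hset, ← MulAction.index_stabilizer, Subgroup.index_mul_card]
  rw [Finset.sum_eq_card_nsmul (b := w O.out) fun a ha => by
      have : a ∈ MulAction.orbit H O.out := by rw [← hset]; exact ha
      obtain ⟨h, rfl⟩ := this
      exact hw h _,
    nsmul_eq_mul, ← hcard]
  push_cast
  have h0 : (Nat.card (MulAction.stabilizer H O.out) : ℚ) ≠ 0 := Nat.cast_ne_zero.2 Nat.card_pos.ne'
  have h1 : ((univ.filter fun a : α =>
      (Quotient.mk'' a : MulAction.orbitRel.Quotient H α) = O).card : ℚ) ≠ 0 :=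
    Nat.cast_ne_zero.2 fun h => by rw [h, zero_mul] at hcard; exact Nat.card_pos.ne' hcard.symm
  field_simp

/-- Egyptian fraction bound. -/
theorem egyptian (T : ℕ) : ∀ L : ℕ, 0 < L → ∃ Bd : ℕ, 0 < Bd ∧ ∀ {ι : Type u} (s : Finset ι)
    (d : ι → ℕ), s.card ≤ T → (∀ i ∈ s, 0 < d i) → ∀ (X : ℤ) (g : ℕ), 0 < g →
      (X : ℚ) / L + 1 / g = ∑ i ∈ s, 1 / (d i : ℚ) → g ≤ Bd ∨ ∃ i ∈ s, g ≤ Bd * d i := by
  induction T with
  | zero =>
    intro L hL
    refine ⟨L, hL, fun s d hs _ X g hg h => Or.inl ?_⟩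
    rw [Finset.card_eq_zero.1 (Nat.le_zero.1 hs), Finset.sum_empty] at h
    have hX : X * g = -(L : ℤ) := by
      have : (X : ℚ) * g = -(L : ℚ) := by
        field_simp at h
        linear_combination h
      exact_mod_cast this
    have : (g : ℤ) ∣ L := ⟨-X, by linear_combination hX⟩
    exact Nat.le_of_dvd hL (Int.natCast_dvd_natCast.1 this)
  | succ T ih =>
    intro L hL
    obtain ⟨Bd, hBd, hspec⟩ := ih (L * ((T + 1) * L).factorial) (Nat.mul_pos hL (Nat.factorial_pos _))
    refine ⟨Bd, hBd, fun {ι} s d hs hd X g hg h => ?_⟩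
    classical
    rcases s.eq_empty_or_nonempty with rfl | hne
    · exact (hspec (∅ : Finset ι) d (by simp) (by simp) (X * ((T + 1) * L).factorial) g hg (by
        rw [← h]; push_cast
        rw [mul_div_mul_right _ _ (Nat.cast_ne_zero.2 (Nat.factorial_ne_zero _))]))
    have hgq : (0 : ℚ) < g := by exact_mod_cast hg
    rcases le_or_gt X 0 with hX | hX
    · obtain ⟨i, hi⟩ := hne
      refine Or.inr ⟨i, hi, ?_⟩
      have h1 : (1 : ℚ) / d i ≤ 1 / g := by
        refine (Finset.single_le_sum (f := fun j => (1 : ℚ) / d j) (fun j _ => by positivity) hi).trans ?_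
        rw [← h]
        have : (X : ℚ) / L ≤ 0 :=
          div_nonpos_of_nonpos_of_nonneg (by exact_mod_cast hX) (by positivity)
        linarith
      rw [one_div_le_one_div (by exact_mod_cast hd i hi) hgq] at h1
      exact le_trans (by exact_mod_cast h1) (Nat.le_mul_of_pos_left _ hBd)
    -- some denominator is small
    obtain ⟨i, hi, hsmall⟩ : ∃ i ∈ s, d i ≤ (T + 1) * L := by
      by_contra hno
      push Not at hno
      have hlt : ∑ i ∈ s, (1 : ℚ) / d i < 1 / L := by
        refine lt_of_lt_of_le (Finset.sum_lt_sum_of_nonempty hne fun i hi =>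
          one_div_lt_one_div_of_lt (by positivity : (0 : ℚ) < ((T + 1) * L : ℕ))
            (by exact_mod_cast hno i hi)) ?_
        rw [Finset.sum_const, nsmul_eq_mul]
        push_cast
        have hc : ((s.card : ℚ)) ≤ (T : ℚ) + 1 := by exact_mod_cast hs
        have hLq : (0 : ℚ) < L := by exact_mod_cast hL
        calc (s.card : ℚ) * (1 / (((T : ℚ) + 1) * L)) ≤ ((T : ℚ) + 1) * (1 / (((T : ℚ) + 1) * L)) :=
              mul_le_mul_of_nonneg_right hc (by positivity)
          _ = 1 / L := by field_simp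
      have hX1 : (1 : ℚ) / L ≤ (X : ℚ) / L :=
        div_le_div_of_nonneg_right (by exact_mod_cast hX) (by positivity)
      have : (0 : ℚ) < 1 / g := by positivity
      linarith
    obtain ⟨c, hc⟩ := Nat.dvd_factorial (hd i hi) hsmall
    have hres := hspec (s.erase i) d (by rw [Finset.card_erase_of_mem hi]; omega)
      (fun j hj => hd j (Finset.mem_of_mem_erase hj))
      (X * ((T + 1) * L).factorial - (L * c : ℕ)) g hg (by
        rw [← Finset.add_sum_erase _ _ hi] at h
        push_cast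
        have hdi : (d i : ℚ) ≠ 0 := Nat.cast_ne_zero.2 (hd i hi).ne'
        have hLq : (L : ℚ) ≠ 0 := Nat.cast_ne_zero.2 hL.ne'
        have hcq : (((T + 1) * L).factorial : ℚ) = d i * c := by exact_mod_cast hc
        have hc0 : (c : ℚ) ≠ 0 := Nat.cast_ne_zero.2 fun h0 => by
          rw [h0, mul_zero] at hc; exact Nat.factorial_ne_zero _ hc
        rw [hcq]
        field_simp at h ⊢
        linear_combination h)
    rcases hres with h' | ⟨j, hj, hj'⟩
    · exact Or.inl h'
    · exact Or.inr ⟨j, Finset.mem_of_mem_erase hj, hj'⟩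

variable {p : ℕ} [Fact p.Prime]
variable {K : Type v} [Field K] [CharP K p] [IsAlgClosed K]
variable {V : Type v} [AddCommGroup V] [Module K V] [FiniteDimensional K V]
variable {G : Type u} [Group G] [Finite G] (ρ : G →* Module.End K V)

/-- The scalar elements. -/
def scal : Subgroup G where
  carrier := {g | IsScalar (ρ g)}
  one_mem' := by show IsScalar (ρ 1); rw [map_one]; exact one_mem _
  mul_mem' := fun {a b} ha hb => by show IsScalar (ρ (a * b)); rw [map_mul]; exact mul_mem ha hb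
  inv_mem' := fun {a} ha => by
    show IsScalar (ρ a⁻¹)
    rw [inv_eq_of_mul_eq_one_right (show a * a ^ (orderOf a - 1) = 1 by
      rw [← pow_succ', Nat.sub_add_cancel (orderOf_pos a), pow_orderOf_eq_one]), map_pow]
    exact pow_mem ha _

theorem mem_scal {g : G} : g ∈ scal ρ ↔ IsScalar (ρ g) := Iff.rfl

theorem scal_commute_end {z : G} (hz : z ∈ scal ρ) (s : Module.End K V) : Commute (ρ z) s := by
  obtain ⟨c, hc⟩ := Algebra.mem_bot.1 hz
  rw [← hc]
  exact Algebra.commute_algebraMap_left c s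

theorem scal_le_CG (S : Subalgebra K (Module.End K V)) : scal ρ ≤ CG ρ S :=
  fun _ hz s _ => scal_commute_end ρ hz s

variable {ρ} (hρ : Function.Injective ρ)

include hρ in
theorem scal_commute {z : G} (hz : z ∈ scal ρ) (g : G) : Commute z g :=
  hρ (by rw [map_mul, map_mul]; exact (scal_commute_end ρ hz (ρ g)).eq)

include hρ in
theorem scal_le_HS (S : Subalgebra K (Module.End K V)) : scal ρ ≤ HS ρ S := fun z hz =>
  ⟨scal_le_CG ρ S hz, fun g _ => (scal_commute hρ hz g).eq.symm⟩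

theorem scal_conj {z : G} (hz : z ∈ scal ρ) (g : G) : g * z * g⁻¹ ∈ scal ρ := by
  show IsScalar _
  obtain ⟨c, hc⟩ := Algebra.mem_bot.1 hz
  rw [← cj_rho, ← hc, AlgHom.commutes]
  exact Subalgebra.algebraMap_mem _ c

theorem HS_comm {S : Subalgebra K (Module.End K V)} {a b : G} (ha : a ∈ HS ρ S) (hb : b ∈ HS ρ S) :
    Commute a b := hb.2 a ha.1

theorem HS_act {S : Subalgebra K (Module.End K V)} {g h : G} (hh : h ∈ HS ρ S) :
    g * h * g⁻¹ ∈ HS ρ (act ρ g S) := by
  refine ⟨mem_CG_act ρ hh.1, fun c hc => ?_⟩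
  have h1 : g⁻¹ * c * g ∈ CG ρ S := by
    have := mem_CG_act ρ (g := g⁻¹) hc
    rwa [act_inv_act, inv_inv] at this
  have h2 := hh.2 _ h1
  calc c * (g * h * g⁻¹) = g * (g⁻¹ * c * g * h) * g⁻¹ := by group
    _ = g * (h * (g⁻¹ * c * g)) * g⁻¹ := by rw [h2]
    _ = g * h * g⁻¹ * c := by group

/-- Exponent threshold. -/
def thr (n F : ℕ) : ℕ := F.factorial * (n * n).factorial

/-- The top level. -/
def top (n : ℕ) : ℕ := lev (n * n) (n * n + 1)

variable (ρ) (n F : ℕ)

/-- The family of maximal stable algebras with a large torus. -/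
def Fam (p : ℕ) (S : Subalgebra K (Module.End K V)) : Prop :=
  MaxGood ρ p F.factorial (top n) S ∧ ∃ h ∈ HS ρ S, ¬ IsScalar (ρ (h ^ thr n F))

/-- The elements attached to an algebra. -/
def Near (S : Subalgebra K (Module.End K V)) (x : G) : Prop :=
  act ρ x S = S ∧ ∃ h ∈ HS ρ S, Commute x h ∧ ¬ IsScalar (ρ (h ^ thr n F))

variable {ρ} {n F}

theorem near_conj {S : Subalgebra K (Module.End K V)} {x g : G} (h : Near ρ n F S x) :
    Near ρ n F (act ρ g S) (g * x * g⁻¹) := by
  obtain ⟨h1, t, ht, hxt, hns⟩ := h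
  refine ⟨?_, g * t * g⁻¹, HS_act ht, hxt.conj g, fun hsc => hns ?_⟩
  · rw [act_mul, act_mul, act_inv_act, h1]
  · have := scal_conj (ρ := ρ) (z := (g * t * g⁻¹) ^ thr n F) hsc g⁻¹
    rwa [conj_pow, show g⁻¹ * (g * t ^ thr n F * g⁻¹) * g⁻¹⁻¹ = t ^ thr n F by group] at this

theorem fam_act {S : Subalgebra K (Module.End K V)} (g : G) (h : Fam ρ n F p S) :
    Fam ρ n F p (act ρ g S) := by
  obtain ⟨h1, t, ht, hns⟩ := h
  refine ⟨maxGood_act ρ g h1, g * t * g⁻¹, HS_act ht, fun hsc => hns ?_⟩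
  have := scal_conj (ρ := ρ) (z := (g * t * g⁻¹) ^ thr n F) hsc g⁻¹
  rwa [conj_pow, show g⁻¹ * (g * t ^ thr n F * g⁻¹) * g⁻¹⁻¹ = t ^ thr n F by group] at this

theorem near_mul {S : Subalgebra K (Module.End K V)} {x k : G} (h : Near ρ n F S x)
    (hk : k ∈ HS ρ S) : Near ρ n F S (x * k) := by
  obtain ⟨h1, t, ht, hxt, hns⟩ := h
  refine ⟨?_, t, ht, hxt.mul_left (HS_comm hk ht), hns⟩
  rw [act_mul, show act ρ k S = S from CG_le_stab ρ S hk.1, h1]

section Bounds
variable (hD : Module.finrank K V ≤ n) (hloc : LocalHyp ρ p F)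

include hD in
omit [CharP K p] [IsAlgClosed K] in
theorem finrank_end_le : Module.finrank K (Module.End K V) ≤ n * n := by
  rw [Module.finrank_linearMap]; exact Nat.mul_le_mul hD hD

include hρ hD hloc in
theorem relIndex_HS_le {S : Subalgebra K (Module.End K V)}
    (hS : MaxGood ρ p F.factorial (top n) S) :
    (HS ρ S).relIndex (stab ρ S) ≤
      (F.factorial ^ top n) ^ n * F * (n * n).factorial := by
  obtain ⟨J, hJ, hGA⟩ := hS.1.2
  obtain ⟨A, a, b, hA, hSa, hSb, hab, hmax⟩ := id hGA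
  have h1 := (facts_stab ρ hρ (finrank_end_le hD) hA hSa).1
  obtain ⟨x, hx, hxns⟩ := exists_nonscalar ρ (hSa ▸ hS.1.1)
  set y := x ^ F.factorial ^ a
  have hcomm : ∀ s ∈ S, ∀ t ∈ S, Commute s t := fun s hs t ht => by
    rw [hSa] at hs ht; exact alg_comm ρ hA.1 hs ht
  have hyS : ρ y ∈ S := hSa ▸ pow_mem_alg ρ hx
  have hyCG : y ∈ CG ρ S := fun s hs => hcomm _ hyS _ hs
  obtain ⟨B, hBle, hB, hBpow, hBi⟩ := hloc y hxns
  have hBalg := alg_eq_of_goodAt hρ hGA hyCG hB hBpow
  have hBCG : B ≤ CG ρ S := fun c hc => by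
    rw [← hBalg]
    exact mem_CG_alg ρ fun c' hc' => (hB.1 c hc c' hc').pow_right _
  have hpowHS : ∀ c ∈ B, c ^ F.factorial ^ J ∈ HS ρ S := fun c hc => by
    have hcS : ρ (c ^ F.factorial ^ J) ∈ S := hBalg ▸ pow_mem_alg ρ hc
    exact ⟨fun s hs => hcomm _ hcS _ hs, fun g hg =>
      hρ (by rw [map_mul, map_mul]; exact (hg _ hcS).eq)⟩
  have hCGle : CG ρ S ≤ Subgroup.centralizer ({y} : Set G) := fun g hg =>
    Subgroup.mem_centralizer_singleton_iff.2 (hρ (by rw [map_mul, map_mul]; exact (hg _ hyS).eq))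
  have h2 : (HS ρ S).relIndex B ≤ (F.factorial ^ top n) ^ n := by
    let φ : B →* B :=
      { toFun := fun c => c ^ F.factorial ^ J
        map_one' := one_pow _
        map_mul' := fun c c' => Commute.mul_pow (Subtype.ext (hB.1 _ c.2 _ c'.2).eq) _ }
    have hle : φ.range ≤ (HS ρ S).subgroupOf B := by
      rintro _ ⟨c, rfl⟩
      exact Subgroup.mem_subgroupOf.2 (hpowHS c c.2)
    have he : φ.range.index = Nat.card φ.ker := by
      have e1 := φ.range.index_mul_card
      have e2 := φ.ker.index_mul_card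
      rw [Subgroup.index_ker] at e2
      exact Nat.eq_of_mul_eq_mul_right Nat.card_pos (e1.trans (e2.symm.trans (mul_comm _ _)))
    refine (Nat.le_of_dvd (Nat.pos_of_ne_zero Subgroup.index_ne_zero_of_finite)
      (Subgroup.index_dvd_of_le hle)).trans (he ▸ ?_)
    refine (card_abelian_le (p := p) (pow_pos (Nat.factorial_pos F) J) (ρ.comp (B.subtype.comp φ.ker.subtype))
      (hρ.comp (Subtype.val_injective.comp Subtype.val_injective))
      (fun c c' => Subtype.ext (Subtype.ext (hB.1 _ c.1.2 _ c'.1.2).eq))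
      (hB.2.coprime_dvd_left (Subgroup.card_subgroup_dvd_card _)) (fun c => Subtype.ext c.2) hD).trans ?_
    exact Nat.pow_le_pow_left (Nat.pow_le_pow_right (Nat.factorial_pos F) hJ) n
  have h3 : B.relIndex (CG ρ S) ≤ F :=
    (Subgroup.relIndex_le_of_le_right hCGle (by exact Subgroup.index_ne_zero_of_finite)).trans hBi
  have h4 : (HS ρ S).relIndex (CG ρ S) ≤ (F.factorial ^ top n) ^ n * F := by
    refine (Nat.le_of_dvd (Nat.pos_of_ne_zero (by exact Subgroup.index_ne_zero_of_finite))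
      (Subgroup.relIndex_dvd_of_le_left (CG ρ S) (inf_le_left : HS ρ S ⊓ B ≤ HS ρ S))).trans ?_
    rw [← Subgroup.relIndex_mul_relIndex (HS ρ S ⊓ B) B (CG ρ S) inf_le_right hBCG,
      Subgroup.inf_relIndex_right]
    exact Nat.mul_le_mul h2 h3
  rw [← Subgroup.relIndex_mul_relIndex (HS ρ S) (CG ρ S) (stab ρ S) inf_le_left (CG_le_stab ρ S)]
  exact Nat.mul_le_mul h4 h1

include hρ hD hloc in
theorem near_unique {S₁ S₂ : Subalgebra K (Module.End K V)} {x : G} (hx : ¬ IsScalar (ρ x))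
    (hf₁ : Fam ρ n F p S₁) (hf₂ : Fam ρ n F p S₂) (h₁ : Near ρ n F S₁ x) (h₂ : Near ρ n F S₂ x) :
    S₁ = S₂ := by
  obtain ⟨-, t₁, ht₁, hc₁, hn₁⟩ := h₁
  obtain ⟨-, t₂, ht₂, hc₂, hn₂⟩ := h₂
  obtain ⟨B, -, hB, hpow, -⟩ := hloc x hx
  have hm₁ := hpow t₁ (Subgroup.mem_centralizer_singleton_iff.2 hc₁.eq.symm)
  have hm₂ := hpow t₂ (Subgroup.mem_centralizer_singleton_iff.2 hc₂.eq.symm)
  have hcm := hB.1 _ hm₁ _ hm₂
  have hy : ¬ IsScalar (ρ (t₂ ^ F.factorial)) := fun h => hn₂ (by
    rw [thr, pow_mul, map_pow]; exact pow_mem h _)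
  set g := t₁ ^ F.factorial
  have hy' : t₂ ^ F.factorial ∈ CG ρ (act ρ g S₂) := by
    have := mem_CG_act ρ (g := g) (pow_mem ht₂.1 F.factorial : t₂ ^ F.factorial ∈ CG ρ S₂)
    rwa [hcm.eq, mul_inv_cancel_right] at this
  have hg : g ∈ stab ρ S₂ :=
    (eq_of_mem_CG hρ hloc hf₂.1 (maxGood_act ρ g hf₂.1) hy (pow_mem ht₂.1 _) hy').symm
  obtain ⟨J, hJ, A, a, b, hA, hSa, -⟩ := hf₂.1.1.2
  have hgz := (facts_stab ρ hρ (finrank_end_le hD) hA hSa).2 g hg
  refine eq_of_mem_CG hρ hloc hf₁.1 hf₂.1 ?_ (pow_mem ht₁.1 (thr n F)) ?_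
  · exact hn₁
  · rw [thr, pow_mul]; exact hgz

include hρ hD hloc in
theorem card_centralizer_le {x : G} (hx : ¬ IsScalar (ρ x))
    (hout : ¬ ∃ S, Fam ρ n F p S ∧ Near ρ n F S x) :
    Nat.card (Subgroup.centralizer ({x} : Set G)) ≤
      F * (F.factorial ^ top n * thr n F) ^ n * Nat.card (scal ρ) := by
  obtain ⟨A, hAle, hA, -, hAi⟩ := hloc x hx
  set q := F.factorial ^ top n * thr n F with hq
  have hqs : ∀ a ∈ A, a ^ q ∈ scal ρ := by
    by_contra hno
    push Not at hno
    obtain ⟨a, ha, hns⟩ := hno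
    set y := a ^ F.factorial ^ top n with hy
    have hyns : ¬ IsScalar (ρ (y ^ thr n F)) := by rw [hy, ← pow_mul]; exact hns
    have hne : alg ρ F.factorial A (top n) ≠ ⊥ := fun h => hyns (by
      have hmem : IsScalar (ρ y) := by
        show ρ y ∈ (⊥ : Subalgebra K (Module.End K V))
        rw [← h]; exact pow_mem_alg ρ ha
      rw [map_pow]; exact pow_mem hmem _)
    obtain ⟨S, hS, hle⟩ := exists_maxGood ρ (p := p) (finrank_end_le hD) hA hne
    have hyS : ρ y ∈ S := hle (pow_mem_alg ρ ha)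
    obtain ⟨J, -, B, a', b', hB, hSa, -⟩ := hS.1.2
    have hyH : y ∈ HS ρ S := ⟨fun s hs => by
        rw [hSa] at hs hyS; exact alg_comm ρ hB.1 hyS hs,
      fun g hg => hρ (by rw [map_mul, map_mul]; exact (hg _ hyS).eq)⟩
    have hxy : Commute x y :=
      ((Subgroup.mem_centralizer_singleton_iff.1 (pow_mem (hAle ha) _)).symm : x * y = y * x)
    refine hout ⟨S, ⟨hS, y, hyH, hyns⟩, ?_, y, hyH, hxy, hyns⟩
    refine (eq_of_mem_CG hρ hloc hS (maxGood_act ρ x hS) (fun h => hyns ?_) hyH.1 ?_).symm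
    · rw [map_pow]; exact pow_mem h _
    · have := mem_CG_act ρ (g := x) hyH.1
      rwa [hxy.eq, mul_inv_cancel_right] at this
  let φ : A →* G :=
    { toFun := fun a => (a : G) ^ q
      map_one' := by simp
      map_mul' := fun a b => (hA.1 _ a.2 _ b.2).mul_pow _ }
  have hA' : Nat.card A ≤ q ^ n * Nat.card (scal ρ) := by
    have hq0 : 0 < q := Nat.mul_pos (pow_pos (Nat.factorial_pos F) _)
      (Nat.mul_pos (Nat.factorial_pos F) (Nat.factorial_pos _))
    rw [← φ.ker.index_mul_card, Subgroup.index_ker, mul_comm]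
    refine Nat.mul_le_mul (card_abelian_le (p := p) hq0 (ρ.comp (A.subtype.comp φ.ker.subtype))
      (hρ.comp (Subtype.val_injective.comp Subtype.val_injective))
      (fun c c' => Subtype.ext (Subtype.ext (hA.1 _ c.1.2 _ c'.1.2).eq))
      (hA.2.coprime_dvd_left (Subgroup.card_subgroup_dvd_card _))
      (fun c => Subtype.ext (Subtype.ext c.2)) hD) ?_
    exact Nat.le_of_dvd Nat.card_pos (Subgroup.card_dvd_of_le (by rintro _ ⟨a, rfl⟩; exact hqs a a.2))
  calc Nat.card (Subgroup.centralizer ({x} : Set G))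
      = A.relIndex (Subgroup.centralizer ({x} : Set G)) * Nat.card A := by
        rw [Subgroup.relIndex, ← Nat.card_congr (Subgroup.subgroupOfEquivOfLe hAle).toEquiv,
          Subgroup.index_mul_card]
    _ ≤ F * (q ^ n * Nat.card (scal ρ)) := Nat.mul_le_mul hAi hA'
    _ = _ := (mul_assoc _ _ _).symm

end Bounds

variable (ρ) in
/-- Elements conjugating `x` into `x` times a scalar. -/
def wide (x : G) : Set G := {g | g * x * g⁻¹ * x⁻¹ ∈ scal ρ}

include hρ in
theorem card_wide_le (hD : Module.finrank K V ≤ n) {x : G} (hx : ¬ IsScalar (ρ x)) :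
    Nat.card (wide ρ x) ≤ n * Nat.card (Subgroup.centralizer ({x} : Set G)) := by
  classical
  rcases subsingleton_or_nontrivial V with h | h
  · exact absurd (Algebra.mem_bot.2 ⟨0, LinearMap.ext fun v => Subsingleton.elim _ _⟩) hx
  obtain ⟨l, hl⟩ := Module.End.exists_eigenvalue (ρ x)
  obtain ⟨w, hw⟩ := hl.exists_hasEigenvector
  have hinv : ∀ (g : G) (v : V), ρ g⁻¹ (ρ g v) = v := fun g v => by
    rw [← Module.End.mul_apply, ← map_mul, inv_mul_cancel, map_one, Module.End.one_apply]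
  have hl0 : l ≠ 0 := fun h0 => hw.2 (by
    have h1 := hw.apply_eq_smul
    rw [h0, zero_smul] at h1
    rw [← hinv x w, h1, map_zero])
  choose c hc using fun g : wide ρ x => Algebra.mem_bot.1 g.2
  have hc' : ∀ g : wide ρ x, ρ (g * x * (g : G)⁻¹) = c g • ρ x := fun g => by
    rw [show (g : G) * x * (g : G)⁻¹ = (g * x * (g : G)⁻¹ * x⁻¹) * x by group, map_mul, ← hc,
      Algebra.algebraMap_eq_smul_one, smul_one_mul]
  have hroot : ∀ g : wide ρ x, (c g)⁻¹ * l ∈ (ρ x).charpoly.roots.toFinset := fun g => by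
    rw [Multiset.mem_toFinset, Polynomial.mem_roots (LinearMap.charpoly_monic _).ne_zero,
      ← Module.End.hasEigenvalue_iff_isRoot_charpoly]
    refine Module.End.hasEigenvalue_of_hasEigenvector
      (x := ρ g w) ⟨Module.End.mem_eigenspace_iff.2 ?_, fun h0 => hw.2 (by rw [← hinv g w, h0, map_zero])⟩
    show ρ x (ρ g w) = ((c g)⁻¹ * l) • ρ g w
    have h1 : ρ (g * x * (g : G)⁻¹) (ρ g w) = l • ρ g w := by
      rw [map_mul, map_mul, Module.End.mul_apply, hinv, Module.End.mul_apply, hw.apply_eq_smul,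
        map_smul]
    rw [hc', LinearMap.smul_apply] at h1
    have hc0 : c g ≠ 0 := fun h0 => by
      rw [h0, zero_smul, eq_comm, smul_eq_zero] at h1
      rcases h1 with h1 | h1
      · exact hl0 h1
      · exact hw.2 (by rw [← hinv g w, h1, map_zero])
    rw [mul_smul, ← h1, inv_smul_smul₀ hc0]
  let f : wide ρ x → (ρ x).charpoly.roots.toFinset := fun g => ⟨_, hroot g⟩
  haveI : Nonempty (wide ρ x) := ⟨⟨1, by simp [wide]⟩⟩
  have hmem : ∀ g : wide ρ x, ((Function.invFun f (f g) : wide ρ x) : G)⁻¹ * g ∈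
      Subgroup.centralizer ({x} : Set G) := fun g => by
    set g₀ := Function.invFun f (f g)
    have he : c g₀ = c g := inv_injective (mul_right_cancel₀ hl0
      (congrArg Subtype.val (Function.invFun_eq (f := f) ⟨g, rfl⟩)))
    have h2 : (g₀ : G) * x * (g₀ : G)⁻¹ = g * x * (g : G)⁻¹ := hρ (by rw [hc', hc', he])
    rw [Subgroup.mem_centralizer_singleton_iff]
    calc (g₀ : G)⁻¹ * g * x = (g₀ : G)⁻¹ * (g * x * (g : G)⁻¹) * g := by group
      _ = (g₀ : G)⁻¹ * (g₀ * x * (g₀ : G)⁻¹) * g := by rw [h2]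
      _ = x * ((g₀ : G)⁻¹ * g) := by group
  have hinj : Function.Injective (fun g : wide ρ x =>
      ((f g, ⟨_, hmem g⟩) : (ρ x).charpoly.roots.toFinset × Subgroup.centralizer ({x} : Set G))) :=
    fun g g' h => by
      have h1 := congrArg Prod.fst h
      have h2 := congrArg (fun q => (q.2 : G)) h
      simp only at h1 h2
      rw [h1] at h2
      exact Subtype.ext (mul_left_cancel h2)
  refine (Nat.card_le_card_of_injective _ hinj).trans ?_
  rw [Nat.card_prod]
  refine Nat.mul_le_mul_right _ ?_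
  rw [Nat.card_eq_fintype_card, Fintype.card_coe]
  exact ((Multiset.toFinset_card_le _).trans (Polynomial.card_roots' _)).trans
    ((LinearMap.charpoly_natDegree _).trans_le hD)

end Cfsg.Agent.BC86.BrauerFeit
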