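import Cfsg.Agent.BC86.BrauerFeit.Basic

/-!
# Reduction for reducible linear groups
-/

set_option autoImplicit false

namespace Cfsg.Agent.BC86.BrauerFeit

universe u v

variable {p : ℕ} [Fact p.Prime]

section Group
variable {G : Type*} [Group G] [Finite G] {m : ℕ}

/-- A normal abelian subgroup of order prime to `p` and index at most `f`. -/
def HasGood (p : ℕ) (G : Type*) [Group G] (f : ℕ) : Prop :=
  ∃ A : Subgroup G, A.Normal ∧ (∀ a ∈ A, ∀ b ∈ A, Commute a b) ∧ (Nat.card A).Coprime p ∧ A.index ≤ f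

theorem hasGood_of_abelian (hm : ¬ p ^ (m + 1) ∣ Nat.card G) (A : Subgroup G) (hA : A.Normal)
    (hcomm : ∀ a ∈ A, ∀ b ∈ A, Commute a b) {f : ℕ} (hf : A.index ≤ f) :
    HasGood p G (p ^ m * f) := by
  have hp := (Fact.out : p.Prime)
  let φ : A →* A :=
    { toFun := fun a => a ^ p ^ m
      map_one' := one_pow _
      map_mul' := fun a b => Commute.mul_pow (Subtype.ext (hcomm _ a.2 _ b.2).eq) _ }
  set P : Subgroup G := φ.range.map A.subtype with hP
  have hmemP : ∀ g, g ∈ P ↔ ∃ a ∈ A, a ^ p ^ m = g := fun g => by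
    constructor
    · rintro ⟨_, ⟨a, rfl⟩, rfl⟩; exact ⟨a, a.2, rfl⟩
    · rintro ⟨a, ha, rfl⟩; exact ⟨_, ⟨⟨a, ha⟩, rfl⟩, rfl⟩
  refine ⟨P, ⟨fun g hg x => ?_⟩, fun a ha b hb => ?_, ?_, ?_⟩
  · obtain ⟨a, ha, rfl⟩ := (hmemP g).1 hg
    exact (hmemP _).2 ⟨x * a * x⁻¹, hA.conj_mem a ha x, conj_pow⟩
  · obtain ⟨a, ha', rfl⟩ := (hmemP a).1 ha
    obtain ⟨b, hb', rfl⟩ := (hmemP b).1 hb
    exact (hcomm a ha' b hb').pow_pow _ _
  · by_contra hcop
    have hdvd : p ∣ Nat.card P := by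
      by_contra h; exact hcop ((hp.coprime_iff_not_dvd.2 h).symm)
    obtain ⟨g, hg⟩ := exists_prime_orderOf_dvd_card' p hdvd
    obtain ⟨a, -, ha⟩ := (hmemP g).1 g.2
    refine hm (dvd_trans ?_ (orderOf_dvd_natCard a))
    obtain ⟨k, hk⟩ : p ^ (m + 1) ∣ orderOf a := by
      have hga : orderOf (a ^ p ^ m) = p := by rw [ha, Subgroup.orderOf_coe, hg]
      rw [orderOf_pow] at hga
      obtain ⟨j, hjm, hj⟩ := (Nat.dvd_prime_pow hp).1 (Nat.gcd_dvd_right (orderOf a) (p ^ m))
      have hmul : orderOf a = p * p ^ j := by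
        rw [← hj]; nth_rewrite 1 [← hga]
        exact (Nat.div_mul_cancel (Nat.gcd_dvd_left _ _)).symm
      rcases Nat.lt_or_ge j m with hlt | hge
      · exfalso
        have : p ^ (j + 1) ∣ Nat.gcd (orderOf a) (p ^ m) :=
          Nat.dvd_gcd (by rw [hmul, pow_succ']) (pow_dvd_pow p hlt)
        rw [hj, Nat.pow_dvd_pow_iff_le_right hp.one_lt] at this
        omega
      · rw [hmul, show j = m by omega, pow_succ']
    exact ⟨k, hk⟩
  · have hker : Nat.card φ.ker ≤ p ^ m := by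
      have hK : IsPGroup p (φ.ker.map A.subtype) := by
        rintro ⟨_, a, ha, rfl⟩
        exact ⟨m, Subtype.ext (by simpa [φ] using congrArg Subtype.val (MonoidHom.mem_ker.1 ha))⟩
      exact (Subgroup.card_map_of_injective (K := φ.ker) A.subtype_injective) ▸
        (card_pGroup_le hm hK).1
    have h1 : φ.range.index = Nat.card φ.ker := by
      have e1 := φ.range.index_mul_card
      have e2 := φ.ker.index_mul_card
      rw [Subgroup.index_ker] at e2
      exact Nat.eq_of_mul_eq_mul_right Nat.card_pos (e1.trans (e2.symm.trans (mul_comm _ _)))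
    rw [hP, Subgroup.index_map_subtype, h1]
    exact Nat.mul_le_mul hker hf

theorem index_centralizer_le_factorial (U : Subgroup G) [U.Normal] :
    ((Subgroup.centralizer (U : Set G))).index ≤ (Nat.card U).factorial := by
  have hker : (MulAut.conjNormal (H := U)).ker ≤ Subgroup.centralizer (U : Set G) := fun g hg => by
    rw [Subgroup.mem_centralizer_iff]
    intro u hu
    have := congrArg (fun t : MulAut U => ((t ⟨u, hu⟩ : U) : G)) (MonoidHom.mem_ker.1 hg)
    simp only [MulAut.conjNormal_apply, MulAut.one_apply] at this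
    exact (mul_inv_eq_iff_eq_mul.1 this).symm
  refine (Nat.le_of_dvd (Nat.pos_of_ne_zero Subgroup.index_ne_zero_of_finite)
    (Subgroup.index_dvd_of_le hker)).trans ?_
  rw [Subgroup.index_ker, ← Nat.card_perm]
  refine (Finite.card_subtype_le _).trans
    (Nat.card_le_card_of_injective (fun a : MulAut U => a.toEquiv) fun a b h => ?_)
  exact MulEquiv.ext (Equiv.ext_iff.1 h)

end Group

variable {K : Type v} [Field K] [CharP K p]
variable {V : Type v} [AddCommGroup V] [Module K V] [FiniteDimensional K V]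

/-- The reducible case: from good subgroups for the sub and quotient representation. -/
theorem hasGood_of_invariant {G : Type u} [Group G] [Finite G] (ρ : G →* Module.End K V)
    (hρ : Function.Injective ρ) {m : ℕ} (hm : ¬ p ^ (m + 1) ∣ Nat.card G) {n f : ℕ}
    (hn : Module.finrank K V ≤ n + 1)
    (IH : ∀ (H : Type u) [Group H] [Finite H] (W : Type v) [AddCommGroup W] [Module K W]
      [FiniteDimensional K W] (σ : H →* Module.End K W), Function.Injective σ →
      ¬ p ^ (m + 1) ∣ Nat.card H → Module.finrank K W ≤ n → HasGood p H f)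
    (W : Submodule K V) (hW0 : W ≠ ⊥) (hW1 : W ≠ ⊤) (hW : ∀ g, ∀ w ∈ W, ρ g w ∈ W) :
    HasGood p G (p ^ m * (p ^ m * ((p ^ m).factorial * (f * f)))) := by
  obtain ⟨ρ₁, ρ₂, h12⟩ := exists_sub_quot ρ W hW
  have hsum := Submodule.finrank_quotient_add_finrank W
  have hlt := Submodule.finrank_lt hW1
  have hpos : 0 < Module.finrank K W :=
    Nat.pos_of_ne_zero fun h => hW0 (Submodule.finrank_eq_zero.1 h)
  have hm' : ∀ N : Subgroup G, ∀ [N.Normal], ¬ p ^ (m + 1) ∣ Nat.card (G ⧸ N) :=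
    fun N _ h => hm (h.trans (Subgroup.card_quotient_dvd_card N))
  obtain ⟨A₁, hA₁, hc₁, -, hi₁⟩ := IH (G ⧸ ρ₁.ker) W (kerLiftM ρ₁) (kerLiftM_injective ρ₁)
    (hm' _) (by omega)
  obtain ⟨A₂, hA₂, hc₂, -, hi₂⟩ := IH (G ⧸ ρ₂.ker) (V ⧸ W) (kerLiftM ρ₂) (kerLiftM_injective ρ₂)
    (hm' _) (by omega)
  set X := A₁.comap (QuotientGroup.mk' ρ₁.ker) ⊓ A₂.comap (QuotientGroup.mk' ρ₂.ker)
  set U := ρ₁.ker ⊓ ρ₂.ker
  have hU : IsPGroup p U := fun u => ⟨1, by
    refine Subtype.ext (hρ ?_)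
    have h2 := h12 (u : G) u.2.1 u.2.2
    have hp1 : (ρ (u : G) - 1) ^ p ^ 1 = 0 :=
      pow_eq_zero_of_le (by rw [pow_one]; exact (Fact.out : p.Prime).two_le) h2
    rw [sub_one_pow, sub_eq_zero] at hp1
    simpa using hp1⟩
  obtain ⟨hUle, hUdvd⟩ := card_pGroup_le hm hU
  set C := X ⊓ Subgroup.centralizer (U : Set G)
  haveI : U.Normal := inferInstance
  haveI : X.Normal := inferInstance
  haveI hCn : C.Normal := inferInstance
  have hCi : C.index ≤ (p ^ m).factorial * (f * f) := by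
    refine Subgroup.index_inf_le.trans ?_
    rw [mul_comm]
    refine Nat.mul_le_mul ((index_centralizer_le_factorial U).trans (Nat.factorial_le hUle)) ?_
    refine Subgroup.index_inf_le.trans (Nat.mul_le_mul ?_ ?_) <;>
      rw [Subgroup.index_comap_of_surjective _ (QuotientGroup.mk'_surjective _)] <;> assumption
  set Zc := C ⊓ Subgroup.centralizer (C : Set G)
  haveI hZn : Zc.Normal := inferInstance
  have hq : ∀ c ∈ C, c ^ p ^ m ∈ Zc := by
    intro c hc
    refine ⟨pow_mem hc _, fun d hd => ?_⟩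
    obtain ⟨u, hu, hdc⟩ : ∃ u ∈ U, d * c * d⁻¹ = u * c := by
      refine ⟨d * c * d⁻¹ * c⁻¹, ⟨?_, ?_⟩, by group⟩
      · have h : ((d * c : G) : G ⧸ ρ₁.ker) = ((c * d : G) : G ⧸ ρ₁.ker) :=
          (hc₁ (d : G ⧸ ρ₁.ker) hd.1.1 (c : G ⧸ ρ₁.ker) hc.1.1).eq
        have h' := (QuotientGroup.eq_one_iff (d * c * d⁻¹ * c⁻¹)).1 (show
          ((d * c * d⁻¹ * c⁻¹ : G) : G ⧸ ρ₁.ker) = 1 by
            rw [QuotientGroup.mk_mul, QuotientGroup.mk_mul, h]; simp [mul_assoc])
        exact h'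
      · have h : ((d * c : G) : G ⧸ ρ₂.ker) = ((c * d : G) : G ⧸ ρ₂.ker) :=
          (hc₂ (d : G ⧸ ρ₂.ker) hd.1.2 (c : G ⧸ ρ₂.ker) hc.1.2).eq
        have h' := (QuotientGroup.eq_one_iff (d * c * d⁻¹ * c⁻¹)).1 (show
          ((d * c * d⁻¹ * c⁻¹ : G) : G ⧸ ρ₂.ker) = 1 by
            rw [QuotientGroup.mk_mul, QuotientGroup.mk_mul, h]; simp [mul_assoc])
        exact h'
    have huc : Commute u c := Subgroup.mem_centralizer_iff.1 hc.2 u hu
    have hu1 : u ^ p ^ m = 1 := orderOf_dvd_iff_pow_eq_one.1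
      ((Subgroup.orderOf_dvd_natCard U hu).trans hUdvd)
    have e := @conj_pow G _ (p ^ m) d c
    rw [hdc, huc.mul_pow, hu1, one_mul] at e
    exact (mul_inv_eq_iff_eq_mul.1 e.symm)
  have hrel : Zc.relIndex C ≤ p ^ m := by
    haveI : (Zc.subgroupOf C).Normal := inferInstance
    have hP : IsPGroup p (C ⧸ Zc.subgroupOf C) := by
      intro x
      induction x using QuotientGroup.induction_on with
      | H c => exact ⟨m, (QuotientGroup.eq_one_iff _).2 (hq c c.2)⟩
    obtain ⟨k, hk⟩ := IsPGroup.iff_card.1 hP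
    have hkm : k ≤ m := by
      by_contra h
      refine hm ((pow_dvd_pow p (by omega : m + 1 ≤ k)).trans ?_)
      rw [← hk]
      exact (Subgroup.card_quotient_dvd_card _).trans (Subgroup.card_subgroup_dvd_card C)
    rw [Subgroup.relIndex, Subgroup.index_eq_card, hk]
    exact Nat.pow_le_pow_right (Fact.out : p.Prime).pos hkm
  refine hasGood_of_abelian hm Zc hZn (fun a ha b hb => ((Subgroup.mem_centralizer_iff.1 hb.2) a ha.1)) ?_
  rw [← Subgroup.relIndex_mul_index (inf_le_left : Zc ≤ C)]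
  exact Nat.mul_le_mul hrel hCi

end Cfsg.Agent.BC86.BrauerFeit
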