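import Cfsg.Agent.BC86.BrauerFeit.Count
import Cfsg.Agent.BC86.BrauerFeit.Reducible

/-!
# The bound on linear groups with bounded Sylow `p`-subgroups
-/

set_option autoImplicit false

namespace Cfsg.Agent.BC86.BrauerFeit

open Finset

universe u v

theorem exists_bound (p : ℕ) [Fact p.Prime] (n F : ℕ) : ∃ B : ℕ, ∀ (G : Type u) [Group G] [Finite G]
    (K : Type v) [Field K] [CharP K p] [IsAlgClosed K] (V : Type v) [AddCommGroup V] [Module K V]
    [FiniteDimensional K V] (ρ : G →* Module.End K V), Function.Injective ρ →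
    Module.finrank K V ≤ n → LocalHyp ρ p F →
    ∃ A : Subgroup G, (∀ a ∈ A, ∀ b ∈ A, Commute a b) ∧ A.index ≤ B := by
  classical
  set Kb := (F.factorial ^ top n) ^ n * F * (n * n).factorial
  set Cb := n * (F * (F.factorial ^ top n * thr n F) ^ n)
  set L := (Kb + Cb).factorial
  obtain ⟨Bd, hBd, hegy⟩ := egyptian.{max u v} (2 * Kb) L (Nat.factorial_pos _)
  refine ⟨Bd * (Kb + 1), fun G _ _ K _ _ _ V _ _ _ ρ hρ hD hloc => ?_⟩
  haveI : Fintype G := Fintype.ofFinite G
  set Z := scal ρ with hZ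
  have hZc : ∀ a ∈ Z, ∀ b ∈ Z, Commute a b := fun a ha b _ => scal_commute hρ ha b
  by_cases hg : Z.index ≤ Bd * (Kb + 1)
  · exact ⟨Z, hZc, hg⟩
  push Not at hg
  let α := {S : Subalgebra K (Module.End K V) // Fam ρ n F p S}
  haveI : Finite α := ((finite_good ρ (p := p) F.factorial (top n)).subset
    fun S (hS : Fam ρ n F p S) => hS.1.1).to_subtype
  haveI : Fintype α := Fintype.ofFinite α
  letI : MulAction G α :=
    { smul := fun g S => ⟨act ρ g S.1, fam_act g S.2⟩
      one_smul := fun S => Subtype.ext (act_one ρ S.1)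
      mul_smul := fun g h S => Subtype.ext (act_mul ρ g h S.1) }
  have hstabα : ∀ S : α, MulAction.stabilizer G S = stab ρ S.1 := fun S => by
    ext g; exact Subtype.ext_iff
  let X : α → Finset G := fun S => univ.filter fun x => Near ρ n F S.1 x ∧ x ∉ Z
  let Out : Finset G := univ.filter fun x =>
    x ∉ Z ∧ ¬ ∃ S, Fam ρ n F p S ∧ Near ρ n F S x
  -- the weight of an algebra
  have hweight : ∀ S : α, ∃ t k d : ℕ, 0 < t ∧ 0 < d ∧ k ≤ Kb ∧ 0 < k ∧
      (HS ρ S.1).relIndex (stab ρ S.1) = k ∧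
      k * Nat.card (HS ρ S.1) = d * Nat.card Z ∧
      ((X S).card : ℚ) / Nat.card (stab ρ S.1) = (t : ℚ) / k - 1 / d ∧
      (1 : ℚ) / (2 * Kb) ≤ (t : ℚ) / k - 1 / d := by
    intro S
    set H := HS ρ S.1
    have hHst : H ≤ stab ρ S.1 := inf_le_left.trans (CG_le_stab ρ S.1)
    have hZH : Z ≤ H := scal_le_HS hρ S.1
    obtain ⟨h₀, hh₀, hns₀⟩ := S.2.2
    have hsc : ∀ z ∈ Z, Near ρ n F S.1 z := fun z hz =>
      ⟨CG_le_stab ρ S.1 (scal_le_CG ρ S.1 hz), h₀, hh₀, scal_commute hρ hz h₀, hns₀⟩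
    set T : Set (G ⧸ H) := (fun x : G => (x : G ⧸ H)) '' {x | Near ρ n F S.1 x}
    have hpre : (fun x : G => (x : G ⧸ H)) ⁻¹' T = {x | Near ρ n F S.1 x} := by
      refine Set.Subset.antisymm ?_ (Set.subset_preimage_image _ _)
      rintro x ⟨y, hy, hyx⟩
      have := near_mul hy (QuotientGroup.eq.1 hyx : y⁻¹ * x ∈ H)
      rwa [mul_inv_cancel_left] at this
    have hnear : Nat.card {x | Near ρ n F S.1 x} = Nat.card H * Nat.card T := by
      rw [← Nat.card_prod, ← Nat.card_congr (QuotientGroup.preimageMkEquivSubgroupProdSet H T)]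
      exact congrArg (fun s : Set G => Nat.card s) hpre.symm
    have hX : (X S).card + Nat.card Z = Nat.card H * Nat.card T := by
      rw [← hnear, Nat.card_eq_fintype_card, Nat.card_eq_fintype_card, ← Set.toFinset_card,
        ← Fintype.card_coe (X S), Fintype.card_coe]
      have hu : ({x | Near ρ n F S.1 x} : Set G).toFinset = X S ∪ univ.filter (fun x => x ∈ Z) := by
        ext x
        simp only [Set.mem_toFinset, Set.mem_setOf_eq, mem_union, mem_filter, mem_univ, true_and, X]
        by_cases hx : x ∈ Z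
        · exact iff_of_true (hsc x hx) (Or.inr hx)
        · simp [hx]
      rw [hu, card_union_of_disjoint (disjoint_filter.2 fun x _ h1 h2 => h1.2 h2),
        Fintype.card_subtype]
    obtain ⟨a, ha⟩ := Subgroup.card_dvd_of_le hZH
    have hk : Nat.card (stab ρ S.1) = H.relIndex (stab ρ S.1) * Nat.card H := by
      rw [Subgroup.relIndex, ← Nat.card_congr (Subgroup.subgroupOfEquivOfLe hHst).toEquiv,
        Subgroup.index_mul_card]
    set k := H.relIndex (stab ρ S.1)
    have hk0 : 0 < k := Nat.pos_of_ne_zero (by exact Subgroup.index_ne_zero_of_finite)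
    have hkK : k ≤ Kb := relIndex_HS_le hρ hD hloc S.2.1
    have hT0 : 0 < Nat.card T := by
      haveI : Nonempty T := ⟨⟨_, 1, hsc 1 (one_mem Z), rfl⟩⟩
      exact Nat.card_pos
    have ha2 : 2 ≤ a := by
      by_contra hlt
      have ha1 : a = 1 := by
        rcases Nat.eq_zero_or_pos a with h | h
        · rw [h, mul_zero] at ha; exact absurd ha Nat.card_pos.ne'
        · omega
      rw [ha1, mul_one] at ha
      have heq : Z = H := Subgroup.eq_of_le_of_card_ge hZH ha.le
      exact hns₀ (pow_mem (heq ▸ hh₀ : h₀ ∈ Z) _)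
    refine ⟨Nat.card T, k, k * a, hT0, Nat.mul_pos hk0 (by omega), hkK, hk0, rfl,
      by rw [ha]; ring, ?_, ?_⟩
    · have hz0 : (Nat.card Z : ℚ) ≠ 0 := Nat.cast_ne_zero.2 Nat.card_pos.ne'
      have hkq : (k : ℚ) ≠ 0 := Nat.cast_ne_zero.2 hk0.ne'
      have haq : (a : ℚ) ≠ 0 := Nat.cast_ne_zero.2 (by omega)
      have hXq : ((X S).card : ℚ) + Nat.card Z = Nat.card H * Nat.card T := by exact_mod_cast hX
      have hHq : (Nat.card H : ℚ) = Nat.card Z * a := by exact_mod_cast ha
      rw [hk]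
      push_cast
      rw [hHq] at hXq ⊢
      field_simp
      linear_combination hXq
    · have hkq : (0 : ℚ) < k := by exact_mod_cast hk0
      have haq : (2 : ℚ) ≤ a := by exact_mod_cast ha2
      have h1 : (1 : ℚ) / ((k * a : ℕ) : ℚ) ≤ 1 / (2 * k) := by
        apply one_div_le_one_div_of_le (by positivity)
        push_cast
        nlinarith
      have h2 : (1 : ℚ) / k ≤ (Nat.card T : ℚ) / k :=
        div_le_div_of_nonneg_right (by exact_mod_cast hT0) hkq.le
      have h3 : (1 : ℚ) / (2 * Kb) ≤ 1 / (2 * k) :=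
        one_div_le_one_div_of_le (by positivity) (by
          have : (k : ℚ) ≤ Kb := by exact_mod_cast hkK
          linarith)
      have h4 : (1 : ℚ) / k = 1 / (2 * k) + 1 / (2 * k) := by field_simp; ring
      linarith
  choose t k d ht hd hkK hk0 hkdef hkd hw hwlow using hweight
  -- the remaining elements
  letI : MulAction (G × Z) {x // x ∈ Out} :=
    { smul := fun gz x => ⟨gz.1 * x.1 * gz.1⁻¹ * gz.2, by
        obtain ⟨hx1, hx2⟩ := (mem_filter.1 x.2).2
        refine mem_filter.2 ⟨mem_univ _, fun h => hx1 ?_, fun ⟨S, hS, hN⟩ => hx2 ?_⟩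
        · have h' := mul_mem h (inv_mem gz.2.2)
          rw [mul_inv_cancel_right] at h'
          have h'' := scal_conj (ρ := ρ) h' gz.1⁻¹
          rwa [show gz.1⁻¹ * (gz.1 * x.1 * gz.1⁻¹) * gz.1⁻¹⁻¹ = x.1 by group] at h''
        · have h' := near_mul hN (scal_le_HS hρ S (inv_mem gz.2.2))
          rw [mul_inv_cancel_right] at h'
          have h'' := near_conj (g := gz.1⁻¹) h'
          rw [show gz.1⁻¹ * (gz.1 * x.1 * gz.1⁻¹) * gz.1⁻¹⁻¹ = x.1 by group] at h''
          exact ⟨_, fam_act _ hS, h''⟩⟩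
      one_smul := fun x => Subtype.ext (by
        show (1 : G) * x.1 * 1⁻¹ * ((1 : Z) : G) = x.1
        simp)
      mul_smul := fun a b x => Subtype.ext (by
        show a.1 * b.1 * x.1 * (a.1 * b.1)⁻¹ * ((a.2 * b.2 : Z) : G) =
          a.1 * (b.1 * x.1 * b.1⁻¹ * b.2) * a.1⁻¹ * a.2
        have e1 := (scal_commute hρ b.2.2 a.1⁻¹).eq
        have e2 := (scal_commute hρ a.2.2 (b.2 : G)).eq
        rw [Subgroup.coe_mul, e2, mul_inv_rev]
        simp only [mul_assoc]
        rw [← mul_assoc (b.2 : G) a.1⁻¹, e1]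
        simp only [mul_assoc]) }
  have hout : ∀ x : {x // x ∈ Out}, ∃ c : ℕ, 0 < c ∧ c ≤ Cb ∧
      Nat.card (MulAction.stabilizer (G × Z) x) = c * Nat.card Z := by
    intro x
    obtain ⟨hx1, hx2⟩ := (mem_filter.1 x.2).2
    let W : Subgroup G := (MulAction.stabilizer (G × Z) x).map (MonoidHom.fst G Z)
    have hmemS : ∀ gz : G × Z, gz ∈ MulAction.stabilizer (G × Z) x ↔
        gz.1 * x.1 * gz.1⁻¹ * gz.2 = x.1 := fun gz => Subtype.ext_iff
    have hcard : Nat.card (MulAction.stabilizer (G × Z) x) = Nat.card W := by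
      refine Nat.card_congr (Equiv.ofBijective (fun gz => ⟨gz.1.1, gz, gz.2, rfl⟩) ⟨?_, ?_⟩)
      · intro a b h
        have h1 : a.1.1 = b.1.1 := congrArg Subtype.val h
        have ea := (hmemS a).1 a.2
        have eb := (hmemS b).1 b.2
        rw [h1] at ea
        exact Subtype.ext (Prod.ext h1 (Subtype.ext (mul_left_cancel (ea.trans eb.symm))))
      · rintro ⟨g, gz, hgz, rfl⟩; exact ⟨⟨gz, hgz⟩, rfl⟩
    have hZW : Z ≤ W := fun z hz => by
      refine ⟨(z, 1), (hmemS _).2 ?_, rfl⟩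
      show z * x.1 * z⁻¹ * ((1 : Z) : G) = x.1
      rw [(scal_commute hρ hz x.1).eq]; simp
    have hWle : Nat.card W ≤ Cb * Nat.card Z := by
      have hWs : Nat.card W ≤ Nat.card (wide ρ x.1) := by
        refine Nat.card_mono (Set.toFinite _) ?_
        rintro _ ⟨gz, hgz, rfl⟩
        have e := (hmemS gz).1 hgz
        show gz.1 * x.1 * gz.1⁻¹ * x.1⁻¹ ∈ Z
        rw [show gz.1 * x.1 * gz.1⁻¹ = x.1 * (gz.2 : G)⁻¹ from eq_mul_inv_of_mul_eq e,
          ← (scal_commute hρ (inv_mem gz.2.2) x.1).eq, mul_inv_cancel_right]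
        exact inv_mem gz.2.2
      refine hWs.trans ((card_wide_le hρ hD hx1).trans ?_)
      exact (Nat.mul_le_mul_left n (card_centralizer_le hρ hD hloc hx1 hx2)).trans_eq
        (mul_assoc _ _ _).symm
    obtain ⟨c, hc⟩ := Subgroup.card_dvd_of_le hZW
    refine ⟨c, Nat.pos_of_ne_zero fun h => ?_, ?_, by rw [hcard, hc, mul_comm]⟩
    · rw [h, mul_zero] at hc; exact Nat.card_pos.ne' hc
    · rw [hc, mul_comm Cb] at hWle
      exact Nat.le_of_mul_le_mul_left hWle Nat.card_pos
  choose c hc0 hcle hc using hout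
  -- the class equation
  have hdisj : (↑(univ : Finset α) : Set α).PairwiseDisjoint X := by
    intro S _ S' _ hne
    rw [Function.onFun, Finset.disjoint_left]
    intro x hx hx'
    obtain ⟨h1, hxz⟩ := (mem_filter.1 hx).2
    exact hne (Subtype.ext (near_unique hρ hD hloc hxz S.2 S'.2 h1 (mem_filter.1 hx').2.1))
  have hpart : Nat.card G = Nat.card Z + ((∑ S : α, (X S).card) + Out.card) := by
    rw [← card_biUnion hdisj, ← card_union_of_disjoint, Nat.card_eq_fintype_card,
      Nat.card_eq_fintype_card, Fintype.card_subtype, ← card_univ,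
      ← card_filter_add_card_filter_not (s := (univ : Finset G)) (fun x => x ∈ Z)]
    · congr 2
      ext x
      simp only [mem_filter, mem_univ, true_and, mem_union, mem_biUnion, X, Out]
      constructor
      · intro hx
        by_cases h : ∃ S, Fam ρ n F p S ∧ Near ρ n F S x
        · obtain ⟨S, hS, hN⟩ := h; exact Or.inl ⟨⟨S, hS⟩, hN, hx⟩
        · exact Or.inr ⟨hx, h⟩
      · rintro (⟨S, -, hx⟩ | ⟨hx, -⟩) <;> exact hx
    · rw [Finset.disjoint_left]
      intro x hx hx'
      obtain ⟨S, -, hS⟩ := mem_biUnion.1 hx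
      exact (mem_filter.1 hx').2.2 ⟨S.1, S.2, (mem_filter.1 hS).2.1⟩
  haveI : Fintype (MulAction.orbitRel.Quotient G α) := Fintype.ofFinite _
  haveI : Fintype (MulAction.orbitRel.Quotient (G × Z) {x // x ∈ Out}) := Fintype.ofFinite _
  have hsum1 : (∑ S : α, ((X S).card : ℚ)) / Nat.card G =
      ∑ O : MulAction.orbitRel.Quotient G α, ((t O.out : ℚ) / k O.out - 1 / d O.out) := by
    rw [sum_orbit_div (fun S : α => ((X S).card : ℚ)) fun g S => ?_]
    · exact sum_congr rfl fun O _ => by rw [hstabα, hw]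
    · have hle : ∀ (g : G) (S : α), (X S).card ≤ (X (g • S)).card := fun g S =>
        card_le_card_of_injOn (fun x => g * x * g⁻¹) (fun x hx => by
          obtain ⟨h1, h2⟩ := (mem_filter.1 hx).2
          refine mem_filter.2 ⟨mem_univ _, near_conj h1, fun h => h2 ?_⟩
          have := scal_conj (ρ := ρ) h g⁻¹
          rwa [show g⁻¹ * (g * x * g⁻¹) * g⁻¹⁻¹ = x by group] at this)
          fun x _ y _ h => mul_left_cancel (mul_right_cancel h)
      exact_mod_cast le_antisymm ((hle g⁻¹ (g • S)).trans (by rw [inv_smul_smul])) (hle g S)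
  have hsum2 : (Out.card : ℚ) / Nat.card G =
      ∑ O : MulAction.orbitRel.Quotient (G × Z) {x // x ∈ Out}, (1 : ℚ) / c O.out := by
    have h := sum_orbit_div (fun _ : {x // x ∈ Out} => (Nat.card Z : ℚ))
      (H := G × Z) fun _ _ => rfl
    rw [sum_const, card_univ, Fintype.card_coe, nsmul_eq_mul, Nat.card_prod] at h
    have hz0 : (Nat.card Z : ℚ) ≠ 0 := Nat.cast_ne_zero.2 Nat.card_pos.ne'
    push_cast at h
    rw [mul_div_mul_right _ _ hz0] at h
    rw [h]
    refine sum_congr rfl fun O _ => ?_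
    rw [hc]
    push_cast
    have := hc0 O.out
    field_simp
  set g := Z.index
  have hg0 : 0 < g := Nat.pos_of_ne_zero Subgroup.index_ne_zero_of_finite
  have hGq : (0 : ℚ) < Nat.card G := by exact_mod_cast Nat.card_pos
  have hginv : (Nat.card Z : ℚ) / Nat.card G = 1 / g := by
    have hN : (Nat.card G : ℚ) = g * Nat.card Z := by exact_mod_cast Z.index_mul_card.symm
    have : (Nat.card Z : ℚ) ≠ 0 := Nat.cast_ne_zero.2 Nat.card_pos.ne'
    have : (g : ℚ) ≠ 0 := Nat.cast_ne_zero.2 hg0.ne'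
    rw [hN]
    field_simp
  have heq : (1 : ℚ) = 1 / g +
      ((∑ O : MulAction.orbitRel.Quotient G α, ((t O.out : ℚ) / k O.out - 1 / d O.out)) +
        ∑ O : MulAction.orbitRel.Quotient (G × Z) {x // x ∈ Out}, (1 : ℚ) / c O.out) := by
    rw [← hsum1, ← hsum2, ← hginv, ← add_div, ← add_div, eq_div_iff hGq.ne', one_mul]
    exact_mod_cast hpart
  have hs1nn : (0 : ℚ) ≤ ∑ O : MulAction.orbitRel.Quotient (G × Z) {x // x ∈ Out},
      (1 : ℚ) / c O.out := sum_nonneg fun O _ => by positivity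
  have hT : Fintype.card (MulAction.orbitRel.Quotient G α) ≤ 2 * Kb := by
    by_contra hlt
    push Not at hlt
    have h1 : (Fintype.card (MulAction.orbitRel.Quotient G α) : ℚ) * (1 / (2 * Kb)) ≤
        ∑ O : MulAction.orbitRel.Quotient G α, ((t O.out : ℚ) / k O.out - 1 / d O.out) := by
      rw [← nsmul_eq_mul, ← card_univ, ← sum_const]
      exact sum_le_sum fun O _ => hwlow O.out
    rcases Nat.eq_zero_or_pos Kb with hK0 | hKpos
    · obtain ⟨O⟩ : Nonempty (MulAction.orbitRel.Quotient G α) := Fintype.card_pos_iff.1 (by omega)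
      exact absurd (hkK O.out) (by have := hk0 O.out; omega)
    have h2 : (1 : ℚ) < (Fintype.card (MulAction.orbitRel.Quotient G α) : ℚ) * (1 / (2 * Kb)) := by
      rw [mul_one_div, one_lt_div (by positivity)]
      exact_mod_cast hlt
    have : (0 : ℚ) < 1 / g := by positivity
    linarith
  have hdivk : ∀ O : MulAction.orbitRel.Quotient G α, k O.out ∣ L := fun O =>
    Nat.dvd_factorial (hk0 _) (le_add_right (hkK _))
  have hdivc : ∀ O : MulAction.orbitRel.Quotient (G × Z) {x // x ∈ Out}, c O.out ∣ L := fun O =>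
    Nat.dvd_factorial (hc0 _) (le_add_left (hcle _))
  choose lk hlk using hdivk
  choose lc hlc using hdivc
  have hL0 : (L : ℚ) ≠ 0 := Nat.cast_ne_zero.2 (Nat.factorial_ne_zero _)
  have hres := hegy (ι := ULift.{max u v} (MulAction.orbitRel.Quotient G α)) univ
    (fun O => d O.down.out) (by rw [card_univ, Fintype.card_ulift]; exact hT) (fun O _ => hd _)
    ((((∑ O : MulAction.orbitRel.Quotient G α, t O.out * lk O) +
      ∑ O : MulAction.orbitRel.Quotient (G × Z) {x // x ∈ Out}, lc O : ℕ) : ℤ) - L) g hg0 (by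
      rw [Fintype.sum_equiv Equiv.ulift (fun O => (1 : ℚ) / d O.down.out)
        (fun O : MulAction.orbitRel.Quotient G α => (1 : ℚ) / d O.out) fun O => rfl]
      have e1 : ∀ O : MulAction.orbitRel.Quotient G α,
          (t O.out : ℚ) / k O.out = ((t O.out * lk O : ℕ) : ℚ) / L := fun O => by
        have h0 : (k O.out : ℚ) ≠ 0 := Nat.cast_ne_zero.2 (hk0 _).ne'
        have e : (L : ℚ) = k O.out * lk O := by exact_mod_cast hlk O
        rw [div_eq_div_iff h0 hL0, e]; push_cast; ring
      have e2 : ∀ O : MulAction.orbitRel.Quotient (G × Z) {x // x ∈ Out},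
          (1 : ℚ) / c O.out = ((lc O : ℕ) : ℚ) / L := fun O => by
        have h0 : (c O.out : ℚ) ≠ 0 := Nat.cast_ne_zero.2 (hc0 _).ne'
        have e : (L : ℚ) = c O.out * lc O := by exact_mod_cast hlc O
        rw [div_eq_div_iff h0 hL0, e]; ring
      rw [sum_sub_distrib] at heq
      simp only [e1, e2, ← sum_div] at heq
      push_cast at heq ⊢
      rw [sub_div, add_div, div_self hL0]
      linear_combination -heq)
  rcases hres with hres | ⟨O, -, hO⟩
  · exact absurd hres (by
      have : Bd ≤ Bd * (Kb + 1) := Nat.le_mul_of_pos_right _ (Nat.succ_pos _)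
      omega)
  refine ⟨HS ρ O.down.out.1, fun a ha b hb => HS_comm ha hb, ?_⟩
  set S := O.down.out
  have h1 : g * Nat.card Z ≤ Bd * k S * Nat.card (HS ρ S.1) := by
    rw [mul_assoc Bd, hkd S, ← mul_assoc]
    exact Nat.mul_le_mul_right _ hO
  rw [Z.index_mul_card, ← (HS ρ S.1).index_mul_card] at h1
  exact (Nat.le_of_mul_le_mul_right h1 Nat.card_pos).trans
    (Nat.mul_le_mul_left _ ((hkK S).trans (Nat.le_succ _)))

theorem main (p : ℕ) [Fact p.Prime] (m : ℕ) : ∀ n, ∃ f : ℕ, ∀ (G : Type u) [Group G] [Finite G]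
    (K : Type v) [Field K] [CharP K p] [IsAlgClosed K] (V : Type v) [AddCommGroup V] [Module K V]
    [FiniteDimensional K V] (ρ : G →* Module.End K V), Function.Injective ρ →
    ¬ p ^ (m + 1) ∣ Nat.card G → Module.finrank K V ≤ n → HasGood p G f := by
  intro n
  induction n with
  | zero =>
    refine ⟨1, fun G _ _ K _ _ _ V _ _ _ ρ hρ _ hn => ?_⟩
    haveI : Subsingleton V := Module.finrank_zero_iff.1 (Nat.le_zero.1 hn)
    haveI : Subsingleton G := ⟨fun a b => hρ (LinearMap.ext fun v => Subsingleton.elim _ _)⟩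
    refine ⟨⊥, inferInstance, fun a ha b _ => by rw [Subgroup.mem_bot.1 ha]; exact Commute.one_left b,
      by rw [Subgroup.card_bot]; exact Nat.coprime_one_left p, le_of_eq ?_⟩
    rw [Subgroup.index_bot, Nat.card_eq_one_iff_unique]
    exact ⟨inferInstance, ⟨1⟩⟩
  | succ n ih =>
    obtain ⟨f, hf⟩ := ih
    set F := p ^ m * (p ^ m * ((p ^ m).factorial * (f * f)))
    obtain ⟨B, hB⟩ := exists_bound.{u, v} p (n + 1) F
    refine ⟨p ^ m * B.factorial, fun G _ _ K _ _ _ V _ _ _ ρ hρ hm hn => ?_⟩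
    have hloc : LocalHyp ρ p F := by
      intro x hx
      set C := Subgroup.centralizer ({x} : Set G)
      obtain ⟨W, hW0, hW1, hW⟩ := exists_invariant ρ hx
      obtain ⟨A, hA, hAc, hAp, hAi⟩ := hasGood_of_invariant (ρ.comp C.subtype)
        (hρ.comp Subtype.val_injective)
        (fun h => hm (h.trans (Subgroup.card_subgroup_dvd_card C))) hn
        (fun H _ _ W' _ _ _ σ hσ hmH hd => hf H K W' σ hσ hmH hd) W hW0 hW1
        fun c => hW _ (Subgroup.mem_centralizer_singleton_iff.1 c.2 : (c : G) * x = x * c)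
      refine ⟨A.map C.subtype, Subgroup.map_subtype_le A, ⟨?_, ?_⟩, fun c hc => ?_, ?_⟩
      · rintro _ ⟨a, ha, rfl⟩ _ ⟨b, hb, rfl⟩
        exact (hAc a ha b hb).map C.subtype
      · rw [Subgroup.card_map_of_injective C.subtype_injective]; exact hAp
      · obtain ⟨j, hj⟩ := Nat.dvd_factorial
          (Nat.pos_of_ne_zero (Subgroup.index_ne_zero_of_finite (H := A))) hAi
        refine ⟨⟨c, hc⟩ ^ F.factorial, ?_, by simp⟩
        rw [hj, pow_mul]
        haveI := hA
        exact pow_mem (A.pow_index_mem _) _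
      · rw [Subgroup.relIndex, Subgroup.subgroupOf, Subgroup.comap_map_eq_self_of_injective C.subtype_injective]
        exact hAi
    obtain ⟨A, hAc, hAi⟩ := hB G K V ρ hρ hn hloc
    refine hasGood_of_abelian hm A.normalCore A.normalCore_normal
      (fun a ha b hb => hAc a (A.normalCore_le ha) b (A.normalCore_le hb)) ?_
    rw [Subgroup.normalCore_eq_ker, Subgroup.index_ker]
    refine (Finite.card_subtype_le _).trans ?_
    rw [Nat.card_perm, ← Subgroup.index_eq_card]
    exact Nat.factorial_le hAi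

end Cfsg.Agent.BC86.BrauerFeit
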