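import Cfsg.Agent.BC86.BrauerFeit.Basic
import Mathlib.LinearAlgebra.FreeModule.Finite.Matrix
import Mathlib.RingTheory.Artinian.Module

/-!
# Stable maximal commutative algebras spanned by abelian subgroups of order prime to `p`
-/

set_option autoImplicit false

namespace Cfsg.Agent.BC86.BrauerFeit

universe u v

variable {p : ℕ} [Fact p.Prime]
variable {K : Type v} [Field K] [CharP K p] [IsAlgClosed K]
variable {V : Type v} [AddCommGroup V] [Module K V] [FiniteDimensional K V]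
variable {G : Type u} [Group G] [Finite G] (ρ : G →* Module.End K V)

/-- An abelian subgroup of order prime to `p`. -/
def IsTor (p : ℕ) (A : Subgroup G) : Prop :=
  (∀ a ∈ A, ∀ b ∈ A, Commute a b) ∧ (Nat.card A).Coprime p

/-- Every centralizer of a non-scalar element has a large abelian subgroup of order prime to
`p`. -/
def LocalHyp (p F : ℕ) : Prop :=
  ∀ x, ¬ IsScalar (ρ x) → ∃ A : Subgroup G, A ≤ Subgroup.centralizer ({x} : Set G) ∧ IsTor p A ∧
    (∀ c ∈ Subgroup.centralizer ({x} : Set G), c ^ F.factorial ∈ A) ∧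
      A.relIndex (Subgroup.centralizer ({x} : Set G)) ≤ F

/-- The algebra generated by the `e ^ k`-th powers of a subgroup. -/
def alg (e : ℕ) (A : Subgroup G) (k : ℕ) : Subalgebra K (Module.End K V) :=
  Algebra.adjoin K ((fun a => ρ (a ^ e ^ k)) '' (A : Set G))

theorem pow_mem_alg {e : ℕ} {A : Subgroup G} {k : ℕ} {a : G} (ha : a ∈ A) :
    ρ (a ^ e ^ k) ∈ alg ρ e A k :=
  Algebra.subset_adjoin ⟨a, ha, rfl⟩

theorem alg_anti (e : ℕ) (A : Subgroup G) {k l : ℕ} (h : k ≤ l) : alg ρ e A l ≤ alg ρ e A k := by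
  refine Algebra.adjoin_le ?_
  rintro _ ⟨a, ha, rfl⟩
  obtain ⟨j, rfl⟩ := Nat.exists_eq_add_of_le h
  show ρ (a ^ e ^ (k + j)) ∈ _
  rw [show a ^ e ^ (k + j) = (a ^ e ^ j) ^ e ^ k by rw [← pow_mul, pow_add, mul_comm]]
  exact pow_mem_alg ρ (pow_mem ha _)

theorem exists_nonscalar {e : ℕ} {A : Subgroup G} {k : ℕ} (h : alg ρ e A k ≠ ⊥) :
    ∃ a ∈ A, ¬ IsScalar (ρ (a ^ e ^ k)) := by
  by_contra hno
  push Not at hno
  exact h (le_bot_iff.1 (Algebra.adjoin_le (by rintro _ ⟨a, ha, rfl⟩; exact hno a ha)))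

theorem commute_adjoin {T : Set (Module.End K V)} {s : Module.End K V}
    (h : ∀ t ∈ T, Commute s t) {t : Module.End K V} (ht : t ∈ Algebra.adjoin K T) : Commute s t := by
  have hle : Algebra.adjoin K T ≤ Subalgebra.centralizer K {s} :=
    Algebra.adjoin_le fun t ht => by
      rw [SetLike.mem_coe, Subalgebra.mem_centralizer_iff]
      intro s' hs'
      rw [Set.mem_singleton_iff.1 hs']
      exact h t ht
  exact (Subalgebra.mem_centralizer_iff K).1 (hle ht) s rfl

theorem alg_comm {e : ℕ} {A : Subgroup G} (hA : ∀ a ∈ A, ∀ b ∈ A, Commute a b) {k : ℕ}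
    {s t : Module.End K V} (hs : s ∈ alg ρ e A k) (ht : t ∈ alg ρ e A k) : Commute s t := by
  refine commute_adjoin (fun t' ht' => (commute_adjoin ?_ hs).symm) ht
  rintro _ ⟨b, hb, rfl⟩
  obtain ⟨a, ha, rfl⟩ := ht'
  exact ((hA a ha b hb).pow_pow _ _).map ρ

/-- The centralizer in `G` of an algebra. -/
def CG (S : Subalgebra K (Module.End K V)) : Subgroup G where
  carrier := {g | ∀ s ∈ S, Commute (ρ g) s}
  one_mem' := fun s _ => by rw [map_one]; exact Commute.one_left s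
  mul_mem' := fun {a b} ha hb s hs => by rw [map_mul]; exact (ha s hs).mul_left (hb s hs)
  inv_mem' := fun {a} ha s hs => by
    obtain ⟨k, hk⟩ : ∃ k, a⁻¹ = a ^ k := ⟨orderOf a - 1, inv_eq_of_mul_eq_one_right (by
      rw [← pow_succ', Nat.sub_add_cancel (orderOf_pos a), pow_orderOf_eq_one])⟩
    rw [hk, map_pow]
    exact (ha s hs).pow_left k

theorem mem_CG {S : Subalgebra K (Module.End K V)} {g : G} :
    g ∈ CG ρ S ↔ ∀ s ∈ S, Commute (ρ g) s := Iff.rfl

theorem mem_CG_alg {e : ℕ} {A : Subgroup G} {k : ℕ} {g : G}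
    (h : ∀ a ∈ A, Commute g (a ^ e ^ k)) : g ∈ CG ρ (alg ρ e A k) := fun _ hs =>
  commute_adjoin (by rintro _ ⟨a, ha, rfl⟩; exact (h a ha).map ρ) hs

/-- Conjugation by `ρ g`. -/
def cj (g : G) : Module.End K V →ₐ[K] Module.End K V where
  toFun s := ρ g * s * ρ g⁻¹
  map_one' := by rw [mul_one, ← map_mul, mul_inv_cancel, map_one]
  map_mul' s t := by
    simp only [mul_assoc]
    rw [← mul_assoc (ρ g⁻¹) (ρ g), ← map_mul, inv_mul_cancel, map_one, one_mul]
  map_zero' := by simp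
  map_add' s t := by rw [mul_add, add_mul]
  commutes' c := by
    rw [← Algebra.commutes c (ρ g), mul_assoc, ← map_mul, mul_inv_cancel, map_one, mul_one]

theorem cj_apply (g : G) (s : Module.End K V) : cj ρ g s = ρ g * s * ρ g⁻¹ := rfl

theorem cj_rho (g a : G) : cj ρ g (ρ a) = ρ (g * a * g⁻¹) := by
  rw [cj_apply, map_mul, map_mul]

theorem cj_mul (g h : G) : (cj ρ g).comp (cj ρ h) = cj ρ (g * h) :=
  AlgHom.ext fun s => by
    rw [AlgHom.comp_apply, cj_apply, cj_apply, cj_apply, mul_inv_rev, map_mul, map_mul]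
    simp only [mul_assoc]

theorem cj_one : cj ρ 1 = AlgHom.id K _ := AlgHom.ext fun s => by simp [cj_apply]

/-- The image of an algebra under conjugation. -/
def act (g : G) (S : Subalgebra K (Module.End K V)) : Subalgebra K (Module.End K V) :=
  S.map (cj ρ g)

theorem act_one (S : Subalgebra K (Module.End K V)) : act ρ 1 S = S := by
  rw [act, cj_one, Subalgebra.map_id]

theorem act_mul (g h : G) (S : Subalgebra K (Module.End K V)) :
    act ρ (g * h) S = act ρ g (act ρ h S) := by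
  rw [act, act, act, Subalgebra.map_map, cj_mul]

theorem act_inv_act (g : G) (S : Subalgebra K (Module.End K V)) : act ρ g⁻¹ (act ρ g S) = S := by
  rw [← act_mul, inv_mul_cancel, act_one]

theorem act_act_inv (g : G) (S : Subalgebra K (Module.End K V)) : act ρ g (act ρ g⁻¹ S) = S := by
  rw [← act_mul, mul_inv_cancel, act_one]

theorem act_mono (g : G) {S T : Subalgebra K (Module.End K V)} (h : S ≤ T) :
    act ρ g S ≤ act ρ g T := Set.image_mono h

theorem act_ne_bot (g : G) {S : Subalgebra K (Module.End K V)} (h : S ≠ ⊥) : act ρ g S ≠ ⊥ :=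
  fun he => h (by rw [← act_inv_act ρ g S, he, act, Algebra.map_bot])

/-- The conjugate of a subgroup. -/
abbrev conjSub (g : G) (A : Subgroup G) : Subgroup G := A.map (MulAut.conj g).toMonoidHom

theorem act_alg (e : ℕ) (g : G) (A : Subgroup G) (k : ℕ) :
    act ρ g (alg ρ e A k) = alg ρ e (conjSub g A) k := by
  rw [act, alg, alg, AlgHom.map_adjoin, Subgroup.coe_map, Set.image_image, Set.image_image]
  congr 1
  refine Set.image_congr' fun a => ?_
  rw [cj_rho]
  simp [conj_pow]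

theorem isTor_conj (g : G) {A : Subgroup G} (h : IsTor p A) : IsTor p (conjSub g A) := by
  refine ⟨?_, ?_⟩
  · rintro _ ⟨a, ha, rfl⟩ _ ⟨b, hb, rfl⟩
    exact (h.1 a ha b hb).map _
  · rw [Subgroup.card_map_of_injective (MulAut.conj g).injective]
    exact h.2

/-- Stable algebra at level `J`, maximal among algebras of that level. -/
def GoodAt (p e J : ℕ) (S : Subalgebra K (Module.End K V)) : Prop :=
  ∃ (A : Subgroup G) (a b : ℕ), IsTor p A ∧ S = alg ρ e A a ∧ S = alg ρ e A b ∧ a + 1 + J ≤ b ∧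
    ∀ A' : Subgroup G, IsTor p A' → S ≤ alg ρ e A' J → alg ρ e A' J = S

/-- Non-scalar stable algebras. -/
def Good (p e top : ℕ) (S : Subalgebra K (Module.End K V)) : Prop :=
  S ≠ ⊥ ∧ ∃ J, J ≤ top ∧ GoodAt ρ p e J S

/-- Maximal stable algebras. -/
def MaxGood (p e top : ℕ) (S : Subalgebra K (Module.End K V)) : Prop :=
  Maximal (Good ρ p e top) S

theorem good_act {e top : ℕ} {S : Subalgebra K (Module.End K V)} (g : G) (h : Good ρ p e top S) :
    Good ρ p e top (act ρ g S) := by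
  obtain ⟨h0, J, hJ, A, a, b, hA, ha, hb, hab, hmax⟩ := h
  refine ⟨act_ne_bot ρ g h0, J, hJ, conjSub g A, a, b, isTor_conj g hA, ?_, ?_, hab, fun A' hA' hle => ?_⟩
  · rw [ha, act_alg]
  · rw [hb, act_alg]
  · have h1 := hmax (conjSub g⁻¹ A') (isTor_conj _ hA') (by
      have := act_mono ρ g⁻¹ hle
      rwa [act_inv_act, act_alg] at this)
    rw [← h1, ← act_alg ρ e g⁻¹ A', act_act_inv]

theorem maxGood_act {e top : ℕ} {S : Subalgebra K (Module.End K V)} (g : G)
    (h : MaxGood ρ p e top S) : MaxGood ρ p e top (act ρ g S) := by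
  refine ⟨good_act ρ g h.1, fun T hT hle => ?_⟩
  have h1 := h.2 (good_act ρ g⁻¹ hT) (by
    have := act_mono ρ g⁻¹ hle
    rwa [act_inv_act] at this)
  have := act_mono ρ g h1
  rwa [act_act_inv] at this

section Key

variable {ρ} {F : ℕ} (hρ : Function.Injective ρ) (hloc : LocalHyp ρ p F)

include hρ in
theorem alg_eq_of_goodAt {J : ℕ} {S : Subalgebra K (Module.End K V)} {y : G}
    (hS : GoodAt ρ p F.factorial J S) (hy : y ∈ CG ρ S) {A₁ : Subgroup G} (hA₁ : IsTor p A₁)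
    (hpow : ∀ c ∈ Subgroup.centralizer ({y} : Set G), c ^ F.factorial ∈ A₁) :
    alg ρ F.factorial A₁ J = S := by
  obtain ⟨A, a, b, -, ha, hb, hab, hmax⟩ := hS
  refine hmax A₁ hA₁ ?_
  rw [hb]
  refine (alg_anti ρ _ A hab).trans (Algebra.adjoin_le ?_)
  rintro _ ⟨x, hx, rfl⟩
  have hxa : x ^ F.factorial ^ a ∈ Subgroup.centralizer ({y} : Set G) := by
    rw [Subgroup.mem_centralizer_singleton_iff]
    have hc : Commute (ρ y) (ρ (x ^ F.factorial ^ a)) := hy _ (ha ▸ pow_mem_alg ρ hx)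
    exact (hρ (by rw [map_mul, map_mul]; exact hc.eq.symm))
  have : x ^ F.factorial ^ (a + 1 + J) = ((x ^ F.factorial ^ a) ^ F.factorial) ^ F.factorial ^ J := by
    rw [← pow_mul, ← pow_mul, pow_add, pow_add, pow_one, mul_assoc]
  show ρ _ ∈ _
  rw [this]
  exact pow_mem_alg ρ (hpow _ hxa)

include hρ hloc in
theorem eq_of_mem_CG {top : ℕ} {S₁ S₂ : Subalgebra K (Module.End K V)} {y : G}
    (h₁ : MaxGood ρ p F.factorial top S₁) (h₂ : MaxGood ρ p F.factorial top S₂)
    (hy : ¬ IsScalar (ρ y)) (hy₁ : y ∈ CG ρ S₁) (hy₂ : y ∈ CG ρ S₂) : S₁ = S₂ := by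
  obtain ⟨A₁, -, hA₁, hpow, -⟩ := hloc y hy
  obtain ⟨J₁, -, hJ₁⟩ := h₁.1.2
  obtain ⟨J₂, -, hJ₂⟩ := h₂.1.2
  have e1 := alg_eq_of_goodAt hρ hJ₁ hy₁ hA₁ hpow
  have e2 := alg_eq_of_goodAt hρ hJ₂ hy₂ hA₁ hpow
  rcases le_total J₁ J₂ with h | h
  · have hle : S₂ ≤ S₁ := e1 ▸ e2 ▸ alg_anti ρ _ A₁ h
    exact le_antisymm (h₂.2 h₁.1 hle) hle
  · have hle : S₁ ≤ S₂ := e1 ▸ e2 ▸ alg_anti ρ _ A₁ h
    exact le_antisymm hle (h₁.2 h₂.1 hle)

end Key

/-- The levels. -/
def lev (D : ℕ) : ℕ → ℕ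
  | 0 => 0
  | r + 1 => (D + 1) * (lev D r + 1)

theorem lev_mono (D : ℕ) : Monotone (lev D) :=
  monotone_nat_of_le_succ fun r =>
    (Nat.le_succ _).trans (Nat.le_mul_of_pos_left _ (Nat.succ_pos D))

omit [CharP K p] [IsAlgClosed K] in
theorem finrank_subalgebra_le (S : Subalgebra K (Module.End K V)) {D : ℕ}
    (hD : Module.finrank K (Module.End K V) ≤ D) : Module.finrank K S ≤ D :=
  (Submodule.finrank_le (Subalgebra.toSubmodule S)).trans hD

omit [CharP K p] [IsAlgClosed K] in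
theorem finrank_lt_of_lt {S T : Subalgebra K (Module.End K V)} (h : S < T) :
    Module.finrank K S < Module.finrank K T :=
  Submodule.finrank_lt_finrank_of_lt
    (show Subalgebra.toSubmodule S < Subalgebra.toSubmodule T from h)

theorem climb {e D : ℕ} (hD : Module.finrank K (Module.End K V) ≤ D) :
    ∀ r, r ≤ D + 1 → ∀ A : Subgroup G, IsTor p A →
      D + 1 ≤ r + Module.finrank K (alg ρ e A (lev D r)) → alg ρ e A (lev D r) ≠ ⊥ →
      ∃ S, Good ρ p e (lev D (D + 1)) S ∧ alg ρ e A (lev D r) ≤ S := by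
  intro r
  induction r with
  | zero =>
    intro _ A _ h _
    have := finrank_subalgebra_le (alg ρ e A (lev D 0)) hD
    omega
  | succ r ih =>
    intro hr A hA hdim hne
    set J := lev D r
    obtain ⟨k, hk, heq⟩ : ∃ k ≤ D, alg ρ e A (k * (J + 1)) = alg ρ e A ((k + 1) * (J + 1)) := by
      by_contra hno
      push Not at hno
      have hdec : ∀ k ≤ D + 1,
          Module.finrank K (alg ρ e A (k * (J + 1))) + k ≤ D := by
        intro k
        induction k with
        | zero => intro _; exact finrank_subalgebra_le _ hD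
        | succ k ihk =>
          intro hk
          have h1 := ihk (by omega)
          have h2 := finrank_lt_of_lt ((alg_anti ρ e A
            (Nat.mul_le_mul_right (J + 1) (Nat.le_add_right k 1))).lt_of_ne (hno k (by omega)).symm)
          omega
      have := hdec (D + 1) le_rfl
      omega
    have htop : alg ρ e A (lev D (r + 1)) ≤ alg ρ e A ((k + 1) * (J + 1)) :=
      alg_anti ρ e A (Nat.mul_le_mul_right _ (by omega))
    set S := alg ρ e A ((k + 1) * (J + 1)) with hSdef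
    have hS0 : S ≠ ⊥ := fun h => hne (le_bot_iff.1 (h ▸ htop))
    by_cases hmax : ∀ A' : Subgroup G, IsTor p A' → S ≤ alg ρ e A' J → alg ρ e A' J = S
    · refine ⟨S, ⟨hS0, J, lev_mono D (by omega), A, k * (J + 1), (k + 1) * (J + 1), hA, heq.symm,
        rfl, ?_, hmax⟩, htop⟩
      rw [Nat.succ_mul]; omega
    push Not at hmax
    obtain ⟨A', hA', hle, hne'⟩ := hmax
    have hlt : Module.finrank K S < Module.finrank K (alg ρ e A' J) :=
      finrank_lt_of_lt (hle.lt_of_ne (Ne.symm hne'))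
    have hle0 : Module.finrank K (alg ρ e A (lev D (r + 1))) ≤ Module.finrank K S :=
      Submodule.finrank_mono
        (show Subalgebra.toSubmodule (alg ρ e A (lev D (r + 1))) ≤ Subalgebra.toSubmodule S from htop)
    obtain ⟨T, hT, hT'⟩ := ih (by omega) A' hA' (by omega) fun h => hS0 (le_bot_iff.1 (h ▸ hle))
    exact ⟨T, hT, htop.trans (hle.trans hT')⟩

omit [Fact p.Prime] [CharP K p] [IsAlgClosed K] in
theorem finite_good (e top : ℕ) : {S | Good ρ p e top S}.Finite := by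
  refine (Set.finite_range fun T : Set G => Algebra.adjoin K (ρ '' T)).subset ?_
  rintro S ⟨-, J, -, A, a, b, -, rfl, -, -, -⟩
  exact ⟨(fun x => x ^ e ^ a) '' (A : Set G), by simp only [Set.image_image]; rfl⟩

theorem exists_maxGood {e D : ℕ} (hD : Module.finrank K (Module.End K V) ≤ D) {A : Subgroup G}
    (hA : IsTor p A) (hne : alg ρ e A (lev D (D + 1)) ≠ ⊥) :
    ∃ S, MaxGood ρ p e (lev D (D + 1)) S ∧ alg ρ e A (lev D (D + 1)) ≤ S := by
  obtain ⟨S, hS, hle⟩ := climb ρ hD (D + 1) le_rfl A hA (Nat.le_add_right _ _) hne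
  obtain ⟨T, hST, hT⟩ := (finite_good ρ (p := p) e (lev D (D + 1))).exists_le_maximal hS
  exact ⟨T, hT, hle.trans hST⟩

/-- The centre of the centralizer of an algebra. -/
def HS (S : Subalgebra K (Module.End K V)) : Subgroup G :=
  CG ρ S ⊓ Subgroup.centralizer (CG ρ S : Set G)

/-- The stabilizer of an algebra. -/
def stab (S : Subalgebra K (Module.End K V)) : Subgroup G where
  carrier := {g | act ρ g S = S}
  one_mem' := act_one ρ S
  mul_mem' := fun {a b} (ha : act ρ a S = S) (hb : act ρ b S = S) => by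
    show act ρ (a * b) S = S; rw [act_mul, hb, ha]
  inv_mem' := fun {a} (ha : act ρ a S = S) => by
    show act ρ a⁻¹ S = S; nth_rw 1 [← ha]; rw [act_inv_act]

theorem cj_eq_self {S : Subalgebra K (Module.End K V)} {g : G} (hg : g ∈ CG ρ S)
    {s : Module.End K V} (hs : s ∈ S) : cj ρ g s = s := by
  rw [cj_apply, (hg s hs).eq, mul_assoc, ← map_mul, mul_inv_cancel, map_one, mul_one]

theorem CG_le_stab (S : Subalgebra K (Module.End K V)) : CG ρ S ≤ stab ρ S := fun g hg => by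
  show act ρ g S = S
  ext s
  rw [act, Subalgebra.mem_map]
  exact ⟨fun ⟨t, ht, e⟩ => by rw [cj_eq_self ρ hg ht] at e; exact e ▸ ht,
    fun hs => ⟨s, hs, cj_eq_self ρ hg hs⟩⟩

theorem mem_CG_act {S : Subalgebra K (Module.End K V)} {g y : G} (hy : y ∈ CG ρ S) :
    g * y * g⁻¹ ∈ CG ρ (act ρ g S) := by
  intro s hs
  obtain ⟨t, ht, rfl⟩ := Subalgebra.mem_map.1 hs
  rw [← cj_rho]
  exact (hy t ht).map (cj ρ g)

theorem exists_stab_hom {S : Subalgebra K (Module.End K V)} {D : ℕ}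
    (hρ : Function.Injective ρ) (hD : Module.finrank K (Module.End K V) ≤ D)
    {A : Subgroup G} {e a : ℕ} (hA : IsTor p A) (hS : S = alg ρ e A a) :
    ∃ (I : Type v) (_ : Finite I) (Φ : stab ρ S →* Equiv.Perm I), Nat.card I ≤ D ∧
      Φ.ker ≤ (CG ρ S).subgroupOf (stab ρ S) := by
  have hmem : ∀ g ∈ stab ρ S, ∀ s ∈ S, cj ρ g s ∈ S := fun g hg s hs => by
    have : cj ρ g s ∈ act ρ g S := Subalgebra.mem_map.2 ⟨s, hs, rfl⟩
    rwa [show act ρ g S = S from hg] at this
  let r : stab ρ S → (S →ₐ[K] S) := fun g =>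
    ((cj ρ (g : G)).comp S.val).codRestrict S fun s => hmem _ g.2 _ s.2
  letI : MulAction (stab ρ S) (S →ₐ[K] K) :=
    { smul := fun g ψ => ψ.comp (r g⁻¹)
      one_smul := fun ψ => AlgHom.ext fun s => congrArg ψ (Subtype.ext (by
        show cj ρ ((1⁻¹ : stab ρ S) : G) (s : Module.End K V) = s
        rw [inv_one, OneMemClass.coe_one, cj_one]; rfl))
      mul_smul := fun g h ψ => AlgHom.ext fun s => congrArg ψ (Subtype.ext (by
        show cj ρ (((g * h)⁻¹ : stab ρ S) : G) (s : Module.End K V) =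
          cj ρ ((h⁻¹ : stab ρ S) : G) (cj ρ ((g⁻¹ : stab ρ S) : G) s)
        rw [mul_inv_rev, Subgroup.coe_mul, ← cj_mul, AlgHom.comp_apply])) }
  refine ⟨S →ₐ[K] K, inferInstance, MulAction.toPermHom _ _,
    (card_algHom_le_finrank K S K).trans (finrank_subalgebra_le S hD), fun g hg => ?_⟩
  rw [Subgroup.mem_subgroupOf]
  suffices h : ∀ x ∈ A, Commute (g : G) (x ^ e ^ a) from fun s hs => mem_CG_alg ρ h s (hS ▸ hs)
  intro x hx
  set b := x ^ e ^ a with hb
  have hg' : ((g⁻¹ : stab ρ S) : G) = (g : G)⁻¹ := rfl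
  set b' := (g : G)⁻¹ * b * (g : G) with hb'
  have hbS : ρ b ∈ S := hS ▸ pow_mem_alg ρ hx
  have hbS' : ρ b' ∈ S := by
    have := hmem _ (g⁻¹).2 _ hbS
    rwa [cj_rho, hg', inv_inv] at this
  have hbS'' : ρ b⁻¹ ∈ S := by
    have : ρ ((x⁻¹) ^ e ^ a) ∈ alg ρ e A a := pow_mem_alg ρ (inv_mem hx)
    rwa [inv_pow, ← hS] at this
  have hψ : ∀ ψ : S →ₐ[K] K, ψ ⟨ρ b', hbS'⟩ = ψ ⟨ρ b, hbS⟩ := fun ψ => by
    have h := AlgHom.congr_fun (Equiv.ext_iff.1 (MonoidHom.mem_ker.1 hg) ψ) ⟨ρ b, hbS⟩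
    refine Eq.trans (congrArg ψ (Subtype.ext ?_)) h
    show ρ b' = cj ρ ((g⁻¹ : stab ρ S) : G) (ρ b)
    rw [cj_rho, hg', inv_inv]
  have hScomm : ∀ s ∈ S, ∀ t ∈ S, Commute s t := fun s hs t ht => by
    rw [hS] at hs ht
    exact alg_comm ρ hA.1 hs ht
  letI : CommRing S :=
    { (inferInstance : Ring S) with
      mul_comm := fun s t => Subtype.ext (hScomm _ s.2 _ t.2).eq }
  haveI : IsArtinianRing S := IsArtinianRing.of_finite K S
  set t : S := ⟨ρ b', hbS'⟩ * ⟨ρ b⁻¹, hbS''⟩ with ht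
  have hnil : IsNilpotent (t - 1) := by
    rw [← mem_nilradical, nilradical_eq_sInf, Submodule.mem_sInf]
    intro (P : Ideal S) (hP : P.IsPrime)
    haveI : P.IsMaximal := IsArtinianRing.isMaximal_of_isPrime P
    haveI : IsDomain (S ⧸ P) := inferInstance
    have hbij := IsAlgClosed.algebraMap_bijective_of_isIntegral (k := K) (K := S ⧸ P)
    let eP : K ≃ₐ[K] S ⧸ P := AlgEquiv.ofBijective (Algebra.ofId K (S ⧸ P)) hbij
    let ψ : S →ₐ[K] K := (eP.symm : (S ⧸ P) →ₐ[K] K).comp (Ideal.Quotient.mkₐ K P)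
    have h1 : ψ t = 1 := by
      rw [ht, map_mul, hψ, ← map_mul,
        show (⟨ρ b, hbS⟩ * ⟨ρ b⁻¹, hbS''⟩ : S) = 1 from Subtype.ext (by
          simp [← map_mul]), map_one]
    have h2 : Ideal.Quotient.mkₐ K P t = 1 := eP.symm.injective (h1.trans (map_one eP.symm).symm)
    rw [← Ideal.Quotient.eq_zero_iff_mem]
    show Ideal.Quotient.mkₐ K P (t - 1) = 0
    rw [map_sub, h2, map_one, sub_self]
  have hone : b' * b⁻¹ = 1 := by
    refine eq_one_of_nilpotent (p := p) ρ hρ ?_ (Nat.Coprime.coprime_dvd_left ?_ hA.2)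
    · have := hnil.map S.val
      simpa [ht, ← map_mul] using this
    · have hcomm : Commute b' b⁻¹ := hρ ((map_mul ρ _ _).trans
        ((hScomm _ hbS' _ hbS'').eq.trans (map_mul ρ _ _).symm))
      have hb1 : b ^ Nat.card A = 1 := orderOf_dvd_iff_pow_eq_one.1
        (Subgroup.orderOf_dvd_natCard A (pow_mem hx _))
      refine orderOf_dvd_of_pow_eq_one ?_
      rw [hcomm.mul_pow, inv_pow, hb1, inv_one, mul_one, hb']
      have := @conj_pow G _ (Nat.card A) (g : G)⁻¹ b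
      rw [inv_inv] at this
      rw [this, hb1, mul_one, inv_mul_cancel]
  have h3 : (g : G)⁻¹ * b * (g : G) = b := mul_inv_eq_one.1 hone
  rw [mul_assoc, inv_mul_eq_iff_eq_mul] at h3
  exact h3.symm

theorem facts_stab {S : Subalgebra K (Module.End K V)} {D : ℕ}
    (hρ : Function.Injective ρ) (hD : Module.finrank K (Module.End K V) ≤ D)
    {A : Subgroup G} {e a : ℕ} (hA : IsTor p A) (hS : S = alg ρ e A a) :
    (CG ρ S).relIndex (stab ρ S) ≤ D.factorial ∧
      ∀ g ∈ stab ρ S, g ^ D.factorial ∈ CG ρ S := by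
  obtain ⟨I, _, Φ, hI, hker⟩ := exists_stab_hom ρ hρ hD hA hS
  haveI : Fintype I := Fintype.ofFinite I
  have hdvd : Φ.ker.index ∣ D.factorial := by
    rw [Subgroup.index_ker]
    refine (Subgroup.card_subgroup_dvd_card _).trans ?_
    rw [Nat.card_perm]
    exact Nat.factorial_dvd_factorial hI
  refine ⟨?_, fun g hg => ?_⟩
  · rw [Subgroup.relIndex]
    exact (Nat.le_of_dvd (Nat.factorial_pos D) ((Subgroup.index_dvd_of_le hker).trans hdvd))
  · obtain ⟨c, hc⟩ := hdvd
    have := hker (pow_mem (Subgroup.pow_index_mem Φ.ker ⟨g, hg⟩) c)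
    rw [← pow_mul, ← hc] at this
    exact Subgroup.mem_subgroupOf.1 this

end Cfsg.Agent.BC86.BrauerFeit
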